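import Cfsg.Agent.Lib.AbelianJ.Shift

/-!
An abelian `p`-group, `p ≥ 5`, acting on a group of class at most two and moving the operators induced by an
abelian group of order prime to `p` on the quotient by a central subgroup, has a subgroup that fixes a large
abelian subgroup.
-/

set_option autoImplicit false

namespace Cfsg.Agent.Lib.AbelianJ

open scoped commutatorElement

variable {D : Type*} [Group D] [Finite D] {p : ℕ} [Fact p.Prime]


theorem dvd_of_zsmul_eq_zero {W : Type*} [AddCommGroup W] {p : ℕ} [Fact p.Prime] (hpW : ∀ w : W, p • w = 0)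
    {w : W} (hw : w ≠ 0) {a : ℤ} (h : a • w = 0) : (p : ℤ) ∣ a := by
  have ho : addOrderOf w = p := addOrderOf_eq_prime (hpW w) hw
  rw [← ho]
  exact addOrderOf_dvd_iff_zsmul_eq_zero.2 h

theorem dvd_of_shift {W : Type*} [AddCommGroup W] {p : ℕ} [Fact p.Prime] (hpW : ∀ w : W, p • w = 0)
    (d : W →+ W) (v : W) (h4 : d (d (d (d v))) ≠ 0) (h5 : d (d (d (d (d v)))) = 0) {a b : ℤ}
    (h : d (a • d v + b • d (d v)) = 0) : (p : ℤ) ∣ a ∧ (p : ℤ) ∣ b := by
  have h' := congrArg (fun w => d (d w)) h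
  simp only [map_add, map_zsmul, h5, zsmul_zero, add_zero, map_zero] at h'
  have ha := dvd_of_zsmul_eq_zero hpW h4 h'
  refine ⟨ha, dvd_of_zsmul_eq_zero hpW h4 ?_⟩
  obtain ⟨c, rfl⟩ := ha
  have e : ∀ w : W, ((p : ℤ) * c) • w = 0 := fun w => by rw [mul_comm, mul_zsmul, natCast_zsmul, hpW, zsmul_zero]
  have h'' := congrArg d h
  simp only [map_add, map_zsmul, e, zero_add, map_zero] at h''
  exact h''

set_option maxHeartbeats 1600000 in
theorem exists_larger (hp : 5 ≤ p) (Z : Subgroup D) [Z.Normal] (hZ : Z ≤ Subgroup.center D)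
    (hder : ∀ u v : D, ⁅u, v⁆ ∈ Z) (hpow : ∀ u : D, u ^ p ∈ Z)
    {A : Type*} [CommGroup A] [Finite A] (hA : IsPGroup p A) (α : A →* MulAut D)
    (hαZ : ∀ a, ∀ z ∈ Z, α a z ∈ Z)
    (H : Subgroup (MulAut D)) (hH1 : ∀ h ∈ H, ∀ z ∈ Z, h z = z)
    (hH2 : ∀ h ∈ H, ∀ k ∈ H, ∀ u, (h (k u))⁻¹ * k (h u) ∈ Z)
    {m : ℕ} (hm : m.Coprime p) (hH3 : ∀ h ∈ H, ∀ u, u⁻¹ * (h ^ m) u ∈ Z)
    (hnorm : ∀ a, ∀ h ∈ H, α a * h * (α a)⁻¹ ∈ H)
    (hne : ∃ a, ∃ h ∈ H, ∃ u, (α a (h u))⁻¹ * h (α a u) ∉ Z) :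
    ∃ (A2 : Subgroup A) (Y C : Subgroup D),
      (∀ x ∈ Y, ∀ y ∈ Y, x * y = y * x) ∧ (∀ a ∈ A2, ∀ y ∈ Y, α a y = y) ∧
      (∀ y ∈ Y, (∀ a, α a y = y) → y ∈ C) ∧
      Nat.card A * Nat.card C < Nat.card A2 * Nat.card Y := by
  classical
  have hpr : p.Prime := Fact.out
  have hc : ∀ z ∈ Z, ∀ g : D, g * z = z * g := fun z hz g => Subgroup.mem_center_iff.1 (hZ hz) g
  letI : CommGroup (D ⧸ Z) :=
    { (inferInstance : Group (D ⧸ Z)) with
      mul_comm := by
        intro a b
        induction a using QuotientGroup.induction_on with | H a => ?_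
        induction b using QuotientGroup.induction_on with | H b => ?_
        rw [← QuotientGroup.mk_mul, ← QuotientGroup.mk_mul, QuotientGroup.eq]
        have h := hder b⁻¹ a⁻¹
        rw [commutatorElement_def] at h
        simpa [mul_assoc] using h }
  let π : D → Additive (D ⧸ Z) := fun u => Additive.ofMul (u : D ⧸ Z)
  have hπs : Function.Surjective π := fun w => by
    obtain ⟨u, hu⟩ := QuotientGroup.mk_surjective (Additive.toMul w)
    exact ⟨u, by simp [π, hu]⟩
  have hπeq : ∀ u v, π u = π v ↔ u⁻¹ * v ∈ Z := fun u v => by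
    simp [π, QuotientGroup.eq]
  have hπm : ∀ u v, π (u * v) = π u + π v := fun u v => rfl
  have hπ1 : π 1 = 0 := rfl
  have hπi : ∀ u, π u⁻¹ = -π u := fun u => rfl
  have hπp : ∀ u (n : ℕ), π (u ^ n) = n • π u := fun u n => rfl
  have hπZ : ∀ u, π u = 0 ↔ u ∈ Z := fun u => by
    rw [← hπ1, eq_comm, hπeq, inv_one, one_mul]
  have hpW : ∀ w : Additive (D ⧸ Z), p • w = 0 := fun w => by
    obtain ⟨u, rfl⟩ := hπs w
    rw [← hπp, hπZ]; exact hpow u
  have exop : ∀ φ : MulAut D, (∀ z ∈ Z, φ z ∈ Z) →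
      ∃ r : AddMonoid.End (Additive (D ⧸ Z)), ∀ u, r (π u) = π (φ u) := fun φ hφ =>
    ⟨MonoidHom.toAdditive (QuotientGroup.map Z Z φ.toMonoidHom hφ), fun u => rfl⟩
  have endext : ∀ r s : AddMonoid.End (Additive (D ⧸ Z)), (∀ u, r (π u) = s (π u)) → r = s := fun r s h =>
    DFunLike.ext r s fun w => by obtain ⟨u, rfl⟩ := hπs w; exact h u
  have hHZ : ∀ h ∈ H, ∀ z ∈ Z, h z ∈ Z := fun h hh z hz => (hH1 h hh z hz).symm ▸ hz
  -- the operators of `H`
  let S : Set (AddMonoid.End (Additive (D ⧸ Z))) := {r | ∃ h ∈ H, ∀ u, r (π u) = π (h u)}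
  have hScomm : ∀ x ∈ S, ∀ y ∈ S, x * y = y * x := by
    rintro x ⟨h, hh, hx⟩ y ⟨k, hk, hy⟩
    refine endext _ _ fun u => ?_
    rw [AddMonoid.End.coe_mul, AddMonoid.End.coe_mul, Function.comp_apply, Function.comp_apply, hy, hx, hx, hy,
      hπeq]
    exact hH2 h hh k hk u
  let R := Subring.closure S
  letI : CommRing R := Subring.closureCommRingOfComm hScomm
  have hSR : S ⊆ R := Subring.subset_closure
  -- reducedness
  set q := p ^ m.totient with hq
  have hm0 : 0 < m := Nat.pos_of_ne_zero (by rintro rfl; rw [Nat.coprime_zero_left] at hm; omega)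
  have hq2 : 2 ≤ q := le_trans hpr.two_le (Nat.le_self_pow (Nat.totient_pos.2 hm0).ne' p)
  have hnt : Nontrivial R := by
    obtain ⟨a, h, hh, u, hu⟩ := hne
    refine nontrivial_of_ne (0 : R) 1 fun h01 => hu ?_
    have h01' : (0 : AddMonoid.End (Additive (D ⧸ Z))) = 1 := congrArg Subtype.val h01
    rw [← hπeq]
    have e : ∀ w : Additive (D ⧸ Z), w = 0 := fun w => (DFunLike.congr_fun h01' w).symm
    rw [e (π _), e (π (h (α a u)))]
  have hpR : (p : R) = 0 := by
    apply Subtype.ext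
    refine DFunLike.ext _ _ fun w => ?_
    simp only [SubringClass.coe_natCast, ZeroMemClass.coe_zero]
    rw [AddMonoid.End.natCast_apply]
    exact hpW w
  haveI : CharP R p := (CharP.charP_iff_prime_eq_zero hpr).2 hpR
  have hRq : ∀ r : R, r ^ q = r := by
    rintro ⟨r, hr⟩
    induction hr using Subring.closure_induction with
    | mem x hx =>
      obtain ⟨h, hh, hx'⟩ := hx
      have hxm : x ^ m = 1 := by
        have e : ∀ n : ℕ, ∀ u, (x ^ n) (π u) = π ((h ^ n) u) := fun n => by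
          induction n with
          | zero => intro u; rfl
          | succ n ih =>
            intro u
            rw [pow_succ, pow_succ, AddMonoid.End.coe_mul, Function.comp_apply, hx', ih]
            rfl
        refine endext _ _ fun u => ?_
        rw [e, AddMonoid.End.coe_one, id, eq_comm, hπeq]
        exact hH3 h hh u
      apply Subtype.ext
      show x ^ q = x
      obtain ⟨k, hk⟩ : ∃ k, q = 1 + m * k := by
        have h1 := Nat.ModEq.pow_totient (Nat.Coprime.symm hm)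
        refine ⟨(q - 1) / m, ?_⟩
        rw [Nat.mul_div_cancel' ((Nat.modEq_iff_dvd' (by omega)).1 h1.symm)]
        omega
      rw [hk, pow_add, pow_one, pow_mul, hxm, one_pow, mul_one]
    | zero => exact zero_pow (by omega)
    | one => exact one_pow _
    | add x y hx hy ihx ihy =>
      have : (⟨x + y, add_mem hx hy⟩ : R) = (⟨x, hx⟩ : R) + ⟨y, hy⟩ := rfl
      rw [this, hq, add_pow_char_pow, ← hq, ihx, ihy]
    | neg x hx ihx =>
      have : (⟨-x, neg_mem hx⟩ : R) = -(⟨x, hx⟩ : R) := rfl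
      rw [this, neg_pow, ihx, (Odd.pow (hpr.odd_of_ne_two (by omega))).neg_one_pow, neg_one_mul]
    | mul x y hx hy ihx ihy =>
      have : (⟨x * y, mul_mem hx hy⟩ : R) = (⟨x, hx⟩ : R) * ⟨y, hy⟩ := rfl
      rw [this, mul_pow, ihx, ihy]
  -- the action of `A`
  choose T hT using fun a => exop (α a) (hαZ a)
  have hT1 : T 1 = 1 := endext _ _ fun u => by rw [hT, map_one]; rfl
  have hTm : ∀ a b, T (a * b) = T a * T b := fun a b => endext _ _ fun u => by
    rw [hT, map_mul, AddMonoid.End.coe_mul, Function.comp_apply, hT, hT]; rfl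
  have hTi : ∀ a, T a * T a⁻¹ = 1 := fun a => by rw [← hTm, mul_inv_cancel, hT1]
  have hTi' : ∀ a, T a⁻¹ * T a = 1 := fun a => by rw [← hTm, inv_mul_cancel, hT1]
  have hconjR : ∀ a, ∀ r ∈ R, T a * r * T a⁻¹ ∈ R := by
    intro a r hr
    induction hr using Subring.closure_induction with
    | mem x hx =>
      obtain ⟨h, hh, hx'⟩ := hx
      refine hSR ⟨_, hnorm a h hh, fun u => ?_⟩
      rw [AddMonoid.End.coe_mul, AddMonoid.End.coe_mul, Function.comp_apply, Function.comp_apply, hT, hx', hT,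
        map_inv]
      rfl
    | zero => rw [mul_zero, zero_mul]; exact zero_mem _
    | one => rw [mul_one, hTi]; exact one_mem _
    | add x y _ _ ihx ihy => rw [mul_add, add_mul]; exact add_mem ihx ihy
    | neg x _ ihx =>
      have : T a * -x * T a⁻¹ = -(T a * x * T a⁻¹) := AddMonoidHom.map_neg ((AddMonoidHom.mulRight (T a⁻¹)).comp (AddMonoidHom.mulLeft (T a))) x
      exact this ▸ neg_mem ihx
    | mul x y _ _ ihx ihy =>
      have : T a * (x * y) * T a⁻¹ = (T a * x * T a⁻¹) * (T a * y * T a⁻¹) := by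
        rw [← mul_one x]
        conv_lhs => rw [← hTi' a]
        simp only [mul_assoc, one_mul, mul_one]
      rw [this]
      exact mul_mem ihx ihy
  let σ₀ : A → R → R := fun a r => ⟨T a * r.1 * T a⁻¹, hconjR a r.1 r.2⟩
  have hσinv : ∀ a r, σ₀ a⁻¹ (σ₀ a r) = r := fun a r => Subtype.ext (by
    show T a⁻¹ * (T a * r.1 * T a⁻¹) * T a⁻¹⁻¹ = r.1
    rw [inv_inv, ← mul_assoc, ← mul_assoc, hTi', one_mul, mul_assoc, hTi', mul_one])
  let σ : A →* R ≃+* R :=
    { toFun := fun a =>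
        { toFun := σ₀ a
          invFun := σ₀ a⁻¹
          left_inv := hσinv a
          right_inv := fun r => by simpa only [inv_inv] using hσinv a⁻¹ r
          map_mul' := fun r s => Subtype.ext (by
            show T a * (r.1 * s.1) * T a⁻¹ = (T a * r.1 * T a⁻¹) * (T a * s.1 * T a⁻¹)
            conv_lhs => rw [← mul_one r.1, ← hTi' a]
            simp only [mul_assoc])
          map_add' := fun r s => Subtype.ext (by
            show T a * (r.1 + s.1) * T a⁻¹ = T a * r.1 * T a⁻¹ + T a * s.1 * T a⁻¹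
            rw [mul_add, add_mul]) }
      map_one' := RingEquiv.ext fun r => Subtype.ext (by
        show T 1 * r.1 * T 1⁻¹ = r.1
        rw [inv_one, hT1, one_mul, mul_one])
      map_mul' := fun a b => RingEquiv.ext fun r => Subtype.ext (by
        show T (a * b) * r.1 * T (a * b)⁻¹ = T a * (T b * r.1 * T b⁻¹) * T a⁻¹
        rw [mul_inv_rev, hTm, hTm]; simp only [mul_assoc]) }
  have hσT : ∀ a (r : R) w, (σ a r).1 (T a w) = T a (r.1 w) := fun a r w => by
    show (T a * r.1 * T a⁻¹) (T a w) = T a (r.1 w)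
    rw [AddMonoid.End.coe_mul, AddMonoid.End.coe_mul, Function.comp_apply, Function.comp_apply,
      ← Function.comp_apply (f := T a⁻¹), ← AddMonoid.End.coe_mul, hTi']
    rfl
  -- the commutator form
  let β : Additive (D ⧸ Z) → Additive (D ⧸ Z) → D := fun v w =>
    ⁅Function.surjInv hπs v, Function.surjInv hπs w⁆
  have comm_z : ∀ u v z, z ∈ Z → ⁅u * z, v⁆ = ⁅u, v⁆ ∧ ⁅u, v * z⁆ = ⁅u, v⁆ := fun u v z hz => by
    constructor
    · rw [commutatorElement_def, commutatorElement_def, mul_inv_rev]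
      calc u * z * v * (z⁻¹ * u⁻¹) * v⁻¹ = u * (z * v) * z⁻¹ * u⁻¹ * v⁻¹ := by group
        _ = u * (v * z) * z⁻¹ * u⁻¹ * v⁻¹ := by rw [hc z hz v]
        _ = _ := by group
    · rw [commutatorElement_def, commutatorElement_def, mul_inv_rev]
      calc u * (v * z) * u⁻¹ * (z⁻¹ * v⁻¹) = u * v * (z * u⁻¹) * z⁻¹ * v⁻¹ := by group
        _ = u * v * (u⁻¹ * z) * z⁻¹ * v⁻¹ := by rw [hc z hz u⁻¹]
        _ = _ := by group
  have hβ : ∀ u v, β (π u) (π v) = ⁅u, v⁆ := fun u v => by
    have h1 := (hπeq u _).1 (Function.surjInv_eq hπs (π u)).symm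
    have h2 := (hπeq v _).1 (Function.surjInv_eq hπs (π v)).symm
    show ⁅Function.surjInv hπs (π u), Function.surjInv hπs (π v)⁆ = _
    rw [← mul_inv_cancel_left u (Function.surjInv hπs (π u)), (comm_z _ _ _ h1).1,
      ← mul_inv_cancel_left v (Function.surjInv hπs (π v)), (comm_z _ _ _ h2).2]
  have hβaddl : ∀ x y v, β (x + y) v = β x v * β y v := fun x y v => by
    obtain ⟨a, rfl⟩ := hπs x; obtain ⟨b, rfl⟩ := hπs y; obtain ⟨c, rfl⟩ := hπs v
    rw [← hπm, hβ, hβ, hβ, commutatorElement_def, commutatorElement_def a, commutatorElement_def b]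
    calc a * b * c * (a * b)⁻¹ * c⁻¹ = a * (b * c * b⁻¹ * c⁻¹) * (c * a⁻¹ * c⁻¹) := by group
      _ = (b * c * b⁻¹ * c⁻¹) * a * (c * a⁻¹ * c⁻¹) := by
          rw [hc _ (by rw [← commutatorElement_def]; exact hder b c) a]
      _ = (b * c * b⁻¹ * c⁻¹) * (a * c * a⁻¹ * c⁻¹) := by group
      _ = _ := (hc _ (by rw [← commutatorElement_def]; exact hder b c) _).symm
  have hβswap : ∀ x y, (β x y)⁻¹ = β y x := fun x y => commutatorElement_inv _ _
  have hβaddr : ∀ x y v, β v (x + y) = β v x * β v y := fun x y v => by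
    rw [← hβswap, hβaddl, mul_inv_rev, hβswap, hβswap]
    exact (hc _ (hder _ _) _).symm
  have hβ0l : ∀ v, β 0 v = 1 := fun v => by
    have h := hβaddl 0 0 v; rw [add_zero] at h
    exact mul_left_cancel (h.symm.trans (mul_one _).symm)
  have hβ0r : ∀ v, β v 0 = 1 := fun v => by rw [← hβswap, hβ0l, inv_one]
  have hβnegl : ∀ x v, β (-x) v = (β x v)⁻¹ := fun x v => eq_inv_of_mul_eq_one_left (by
    rw [← hβaddl, neg_add_cancel, hβ0l])
  have hβnegr : ∀ x v, β v (-x) = (β v x)⁻¹ := fun x v => eq_inv_of_mul_eq_one_left (by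
    rw [← hβaddr, neg_add_cancel, hβ0r])
  -- every operator has an adjoint
  have hadj : ∀ r ∈ R, ∃ r' ∈ R, ∀ u v, β (r u) v = β u (r' v) ∧ β (r' u) v = β u (r v) := by
    intro r hr
    induction hr using Subring.closure_induction with
    | mem x hx =>
      obtain ⟨h, hh, hx'⟩ := hx
      obtain ⟨x', hx''⟩ := exop h⁻¹ (hHZ _ (inv_mem hh))
      refine ⟨x', hSR ⟨_, inv_mem hh, hx''⟩, fun u v => ?_⟩
      obtain ⟨a, rfl⟩ := hπs u; obtain ⟨b, rfl⟩ := hπs v
      constructor
      · rw [hx', hx'', hβ, hβ]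
        conv_lhs => rw [← MulAut.apply_inv_self D h b, ← map_commutatorElement]
        exact hH1 h hh _ (hder _ _)
      · rw [hx', hx'', hβ, hβ]
        conv_lhs => rw [← MulAut.inv_apply_self D h b, ← map_commutatorElement]
        exact hH1 _ (inv_mem hh) _ (hder _ _)
    | zero => exact ⟨0, zero_mem _, fun u v => by simp [hβ0l, hβ0r]⟩
    | one => exact ⟨1, one_mem _, fun u v => by simp⟩
    | add x y _ _ ihx ihy =>
      obtain ⟨x', hx', ex⟩ := ihx; obtain ⟨y', hy', ey⟩ := ihy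
      refine ⟨x' + y', add_mem hx' hy', fun u v => ?_⟩
      exact ⟨(hβaddl _ _ _).trans (((ex u v).1 ▸ (ey u v).1 ▸ rfl : β (x u) v * β (y u) v =
          β u (x' v) * β u (y' v)).trans (hβaddr _ _ _).symm),
        (hβaddl _ _ _).trans (((ex u v).2 ▸ (ey u v).2 ▸ rfl : β (x' u) v * β (y' u) v =
          β u (x v) * β u (y v)).trans (hβaddr _ _ _).symm)⟩
    | neg x _ ihx =>
      obtain ⟨x', hx', ex⟩ := ihx
      refine ⟨-x', neg_mem hx', fun u v => ?_⟩
      exact ⟨(hβnegl _ _).trans ((congrArg _ (ex u v).1).trans (hβnegr _ _).symm),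
        (hβnegl _ _).trans ((congrArg _ (ex u v).2).trans (hβnegr _ _).symm)⟩
    | mul x y hx hy ihx ihy =>
      obtain ⟨x', hx', ex⟩ := ihx; obtain ⟨y', hy', ey⟩ := ihy
      refine ⟨y' * x', mul_mem hy' hx', fun u v => ⟨?_, ?_⟩⟩
      · exact ((ex (y u) v).1).trans (ey u (x' v)).1
      · exact ((ey (x' u) v).2).trans (ex u (y v)).2
  -- the self-adjoint operators
  let Rs : Subring R :=
    { carrier := {r | ∀ u v, β (r.1 u) v = β u (r.1 v)}
      zero_mem' := fun u v => by simp [hβ0l, hβ0r]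
      one_mem' := fun u v => by simp
      add_mem' := fun {r s} hr hs u v => by
        exact (hβaddl _ _ _).trans ((congrArg₂ _ (hr u v) (hs u v)).trans (hβaddr _ _ _).symm)
      neg_mem' := fun {r} hr u v => (hβnegl _ _).trans ((congrArg _ (hr u v)).trans (hβnegr _ _).symm)
      mul_mem' := fun {r s} hr hs u v => by
        refine ((hr (s.1 u) v).trans (hs u (r.1 v))).trans ?_
        exact congrArg (fun t : R => β u (t.1 v)) (mul_comm s r) }
  have hRsdef : ∀ r : R, r ∈ Rs ↔ ∀ u v, β (r.1 u) v = β u (r.1 v) := fun r => Iff.rfl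
  have hβα : ∀ a u v, β (T a u) (T a v) = α a (β u v) := fun a u v => by
    obtain ⟨u, rfl⟩ := hπs u; obtain ⟨v, rfl⟩ := hπs v
    rw [hT, hT, hβ, hβ, map_commutatorElement]
  have hσRs : ∀ a, ∀ r ∈ Rs, σ a r ∈ Rs := fun a r hr => by
    rw [hRsdef]
    intro u v
    obtain ⟨u, rfl⟩ : ∃ u', T a u' = u := ⟨T a⁻¹ u, by
      rw [← Function.comp_apply (f := T a), ← AddMonoid.End.coe_mul, hTi]; rfl⟩
    obtain ⟨v, rfl⟩ : ∃ v', T a v' = v := ⟨T a⁻¹ v, by
      rw [← Function.comp_apply (f := T a), ← AddMonoid.End.coe_mul, hTi]; rfl⟩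
    rw [hσT, hσT, hβα, hβα, (hRsdef r).1 hr]
  haveI : Finite (AddMonoid.End (Additive (D ⧸ Z))) :=
    Finite.of_injective (fun r => (r : Additive (D ⧸ Z) → Additive (D ⧸ Z))) DFunLike.coe_injective
  -- some self-adjoint operator moves
  have hmove : ∃ a, ∃ r ∈ Rs, σ a r ≠ r := by
    by_contra hcon
    push_neg at hcon
    obtain ⟨a, h, hh, u, hu⟩ := hne
    obtain ⟨x, hx⟩ := exop h (hHZ h hh)
    have hσne : ∃ a r, σ a r ≠ r := by
      refine ⟨a, ⟨x, hSR ⟨h, hh, hx⟩⟩, fun heq => hu ?_⟩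
      have h2 := congrArg (fun r : R => r.1 (T a (π u))) heq
      rw [hσT] at h2
      rw [← hπeq]
      simpa [hx, hT] using h2
    obtain ⟨y, e, g, he0, hee, heσ, -, hg, -⟩ := exists_shift hpR hq2 hRq hA σ hσne
    obtain ⟨y', hy', ey⟩ := hadj y.1 y.2
    have hs : y + ⟨y', hy'⟩ ∈ Rs := fun u v => by
      refine (hβaddl _ _ _).trans (Eq.trans ?_ (hβaddr _ _ _).symm)
      exact ((congrArg₂ _ (ey u v).1 (ey u v).2).trans (hc _ (hder _ _) _).symm)
    have hn : y * ⟨y', hy'⟩ ∈ Rs := fun u v => by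
      refine ((ey (y' u) v).1.trans (ey u (y' v)).2).trans ?_
      rfl
    have q1 : y * y - (y + ⟨y', hy'⟩) * y + y * ⟨y', hy'⟩ = 0 := by ring
    have q2 := congrArg (σ g) q1
    simp only [map_add, map_sub, map_mul, map_zero] at q2
    have e1 := hcon g _ hs
    have e2 := hcon g _ hn
    rw [map_add] at e1
    rw [map_mul] at e2
    rw [e1, e2, hg] at q2
    have q3 := congrArg (σ g) q2
    simp only [map_add, map_sub, map_mul, map_zero] at q3
    rw [hg, heσ] at q3
    have e1' : σ g y + σ g ⟨y', hy'⟩ = y + ⟨y', hy'⟩ := e1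
    have e2' : σ g y * σ g ⟨y', hy'⟩ = y * ⟨y', hy'⟩ := e2
    rw [hg] at e1' e2'
    have h2e : (2 : R) * (e * e) = 0 := by
      linear_combination q3 - 2 * q2 + q1 + (y + e + e) * e1' - e2'
    have h2 : ((p + 1) / 2 * 2 : ℕ) = p + 1 := by
      obtain ⟨k, hk⟩ := hpr.odd_of_ne_two (by omega)
      omega
    have h2' : (((p + 1) / 2 : ℕ) : R) * 2 = 1 := by
      have := congrArg (fun n : ℕ => (n : R)) h2
      push_cast at this
      rw [this, hpR, zero_add]
    apply he0
    calc e = (((p + 1) / 2 : ℕ) : R) * (2 * (e * e)) := by rw [← mul_assoc, h2', one_mul, hee]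
      _ = 0 := by rw [h2e, mul_zero]
  -- shift inside the self-adjoint operators
  let σs₀ : A → Rs ≃+* Rs := fun a =>
    { toFun := fun r => ⟨σ a r, hσRs a r r.2⟩
      invFun := fun r => ⟨σ a⁻¹ r, hσRs _ r r.2⟩
      left_inv := fun r => Subtype.ext (hσinv a r.1)
      right_inv := fun r => Subtype.ext (by
        have h := hσinv a⁻¹ r.1
        rw [inv_inv] at h
        exact h)
      map_mul' := fun r s => Subtype.ext (map_mul (σ a) _ _)
      map_add' := fun r s => Subtype.ext (map_add (σ a) _ _) }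
  let σs : A →* Rs ≃+* Rs :=
    { toFun := σs₀
      map_one' := RingEquiv.ext fun r => Subtype.ext (congrArg (fun f : R ≃+* R => f r.1) (map_one σ))
      map_mul' := fun a b => RingEquiv.ext fun r => Subtype.ext (congrArg (fun f : R ≃+* R => f r.1) (map_mul σ a b)) }
  obtain ⟨y, e, g, he0, hee, heσ, hye, hg, hrank⟩ := exists_shift (R := Rs) (Subtype.ext (by push_cast; exact hpR))
    hq2 (fun r => Subtype.ext (hRq r.1)) hA σs (by
      obtain ⟨a, r, hr, h⟩ := hmove
      exact ⟨a, ⟨r, hr⟩, fun h' => h (congrArg Subtype.val h')⟩)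
  -- evaluation at a vector fixed by `A` and by `e`
  let ev : Rs →+* AddMonoid.End (Additive (D ⧸ Z)) := R.subtype.comp Rs.subtype
  have hσev : ∀ a (r : Rs) w, ev (σs a r) (T a w) = T a (ev r w) := fun a r w => hσT a r.1 w
  obtain ⟨x, hxT, hx0, hxe⟩ : ∃ x, (∀ a, T a x = x) ∧ x ≠ 0 ∧ ev e x = x := by
    let V : AddSubgroup (Additive (D ⧸ Z)) :=
      { carrier := {w | ev e w = w}
        zero_mem' := map_zero _
        add_mem' := fun {v w} (hv : ev e v = v) (hw : ev e w = w) => by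
          show ev e (v + w) = v + w
          rw [map_add, hv, hw]
        neg_mem' := fun {w} (hw : ev e w = w) => by
          show ev e (-w) = -w
          rw [map_neg, hw] }
    have hTV : ∀ a, ∀ w ∈ V, T a w ∈ V := fun a w (hw : ev e w = w) => by
      show ev e (T a w) = T a w
      conv_lhs => rw [← heσ a, hσev, hw]
    letI : MulAction A V :=
      { smul := fun a w => ⟨T a w, hTV a w w.2⟩
        one_smul := fun w => Subtype.ext (DFunLike.congr_fun hT1 w.1)
        mul_smul := fun a b w => Subtype.ext (DFunLike.congr_fun (hTm a b) w.1) }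
    have h0 : (0 : V) ∈ MulAction.fixedPoints A V := fun a => Subtype.ext (map_zero (T a))
    obtain ⟨w, hw⟩ : ∃ w, ev e w ≠ 0 := by
      by_contra hcon
      push_neg at hcon
      exact he0 (Subtype.ext (Subtype.ext (DFunLike.ext _ _ hcon)))
    have hwV : ev e w ∈ V := by
      show ev e (ev e w) = ev e w
      conv_rhs => rw [← hee, map_mul]
      rfl
    have hdvd : p ∣ Nat.card V := by
      have hord : addOrderOf (⟨_, hwV⟩ : V) = p :=
        addOrderOf_eq_prime (Subtype.ext (hpW _)) fun h => hw (congrArg Subtype.val h)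
      exact hord ▸ addOrderOf_dvd_natCard _
    obtain ⟨v, hv, hv0⟩ := hA.exists_fixed_point_of_prime_dvd_card_of_fixed_point V hdvd h0
    exact ⟨v.1, fun a => congrArg Subtype.val (hv a), fun h => hv0 (Subtype.ext h.symm), v.2⟩
  have hTev : ∀ a (r : Rs), T a (ev r x) = ev (σs a r) x := fun a r => by rw [← hσev, hxT]
  let U : Subgroup D :=
    { carrier := {d | ∃ r : Rs, π d = ev r x}
      one_mem' := ⟨0, by rw [hπ1, map_zero]; rfl⟩
      mul_mem' := fun {c d} ⟨r, hr⟩ ⟨s, hs⟩ => ⟨r + s, by rw [hπm, hr, hs, map_add]; rfl⟩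
      inv_mem' := fun {c} ⟨r, hr⟩ => ⟨-r, by rw [hπi, hr, map_neg]; rfl⟩ }
  have hUc : ∀ c ∈ U, ∀ d ∈ U, c * d = d * c := by
    rintro c ⟨r, hr⟩ d ⟨s, hs⟩
    rw [← commutatorElement_eq_one_iff_mul_comm, ← hβ, hr, hs]
    set z := β (ev r x) (ev s x) with hz
    have h1 : z = β x (ev (r * s) x) := (r.2 x (ev s x)).trans (by rw [map_mul]; rfl)
    have h2 : z = β (ev (r * s) x) x := (s.2 (ev r x) x).symm.trans (by rw [mul_comm r s, map_mul]; rfl)
    have h3 : z = z⁻¹ := by
      conv_lhs => rw [h2]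
      rw [h1, hβswap]
    have h4 : z ^ 2 = 1 := by
      rw [pow_two]
      nth_rw 1 [h3]
      exact inv_mul_cancel z
    have hnat : ∀ (v w : Additive (D ⧸ Z)) (n : ℕ), β (n • v) w = β v w ^ n := fun v w n => by
      induction n with
      | zero => rw [zero_nsmul, hβ0l, pow_zero]
      | succ n ih => rw [succ_nsmul, hβaddl, ih, pow_succ]
    have h5 : z ^ p = 1 := by rw [hz, ← hnat, hpW, hβ0l]
    have h6 := pow_gcd_eq_one.2 ⟨h4, h5⟩
    rwa [(Nat.coprime_primes Nat.prime_two hpr).2 (by omega), pow_one] at h6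
  obtain ⟨w, hw⟩ := hπs (ev (y ^ 4) x)
  have hwU : w ∈ U := ⟨_, hw⟩
  set δ : A → D := fun a => w⁻¹ * α a w with hδ
  have hπδ : ∀ a, π (δ a) = ev (σs a (y ^ 4) - y ^ 4) x := fun a => by
    rw [hδ, hπm, hπi, ← hT, hw, hTev, map_sub]
    exact neg_add_eq_sub _ _
  have hδU : ∀ a, δ a ∈ U := fun a => ⟨_, hπδ a⟩
  have hαw : ∀ a, α a w = w * δ a := fun a => (mul_inv_cancel_left _ _).symm
  have hδm : ∀ a b, δ (a * b) = δ a * α a (δ b) := fun a b => by
    show w⁻¹ * α (a * b) w = w⁻¹ * α a w * α a (w⁻¹ * α b w)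
    rw [map_mul, MulAut.mul_apply, map_mul (α a), map_inv (α a)]
    group
  let Fix : Subgroup D :=
    { carrier := {d | ∀ a, α a d = d}
      one_mem' := fun a => map_one _
      mul_mem' := fun {c d} hc hd a => by rw [map_mul, hc a, hd a]
      inv_mem' := fun {c} hc a => by rw [map_inv, hc a] }
  let A1 : Subgroup A :=
    { carrier := {a | σs a y = y}
      one_mem' := by show σs 1 y = y; rw [map_one]; rfl
      mul_mem' := fun {a b} (ha : σs a y = y) (hb : σs b y = y) => by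
        show σs (a * b) y = y
        rw [map_mul]; show σs a (σs b y) = y; rw [hb, ha]
      inv_mem' := fun {a} (ha : σs a y = y) => by
        show σs a⁻¹ y = y
        conv_lhs => rw [← ha]
        show (σs a⁻¹ * σs a) y = y
        rw [← map_mul, inv_mul_cancel, map_one]; rfl }
  let Y : Subgroup D := Subgroup.closure (Set.range δ)
  have hYU : Y ≤ U := (Subgroup.closure_le _).2 (by rintro _ ⟨a, rfl⟩; exact hδU a)
  have hδY : ∀ a, δ a ∈ Y := fun a => Subgroup.subset_closure ⟨a, rfl⟩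
  let A2 : Subgroup A :=
    { carrier := {a | a ∈ A1 ∧ δ a ∈ Fix}
      one_mem' := ⟨one_mem _, by rw [hδ]; simp⟩
      mul_mem' := fun {a b} ha hb => ⟨mul_mem ha.1 hb.1, by
        rw [hδm, hb.2 a]; exact mul_mem ha.2 hb.2⟩
      inv_mem' := fun {a} ha => ⟨inv_mem ha.1, by
        have h := hδm a⁻¹ a
        rw [inv_mul_cancel, show δ 1 = 1 by simp [hδ], ha.2 a⁻¹] at h
        rw [show δ a⁻¹ = (δ a)⁻¹ from eq_inv_of_mul_eq_one_left h.symm]
        exact inv_mem ha.2⟩ }
  have hA2Y : ∀ a ∈ A2, ∀ d ∈ Y, α a d = d := by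
    intro a ha d hd
    induction hd using Subgroup.closure_induction with
    | mem d hd =>
      obtain ⟨b, rfl⟩ := hd
      have h := hδm a b
      rw [mul_comm a b, hδm b a, ha.2 b, hUc _ (hδU b) _ (hδU a)] at h
      exact (mul_left_cancel h).symm
    | one => exact map_one _
    | mul c d _ _ ihc ihd => rw [map_mul, ihc, ihd]
    | inv c _ ih => rw [map_inv, ih]
  refine ⟨A2, Y, Y ⊓ Fix, fun c hc' d hd => hUc c (hYU hc') d (hYU hd), hA2Y, fun d hd h => ⟨hd, h⟩, ?_⟩
  -- counting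
  let Y0 : Subgroup D :=
    { carrier := {d | d ∈ Y ∧ ∀ a, T a (π d) = π d}
      one_mem' := ⟨one_mem _, fun a => by rw [hπ1, map_zero]⟩
      mul_mem' := fun {c d} hc hd => ⟨mul_mem hc.1 hd.1, fun a => by rw [hπm, map_add, hc.2, hd.2]⟩
      inv_mem' := fun {c} hc => ⟨inv_mem hc.1, fun a => by rw [hπi, map_neg, hc.2]⟩ }
  have hCY0 : Y ⊓ Fix ≤ Y0 := fun d hd => ⟨hd.1, fun a => by rw [hT, hd.2 a]⟩
  have hY0Y : Y0 ≤ Y := fun d hd => hd.1
  have hδY0 : ∀ a ∈ A1, δ a ∈ Y0 := fun a ha => ⟨hδY a, fun b => by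
    rw [hπδ, map_pow, (ha : σs a y = y), sub_self, map_zero]
    exact map_zero _⟩
  -- first bound
  have hA21 : A2 ≤ A1 := fun a ha => ha.1
  have bound1 : Nat.card A1 * Nat.card (Y ⊓ Fix : Subgroup D) ≤ Nat.card A2 * Nat.card Y0 := by
    rw [← Subgroup.card_mul_index (A2.subgroupOf A1), ← Subgroup.card_mul_index ((Y ⊓ Fix).subgroupOf Y0),
      Nat.card_congr (Subgroup.subgroupOfEquivOfLe hA21).toEquiv,
      Nat.card_congr (Subgroup.subgroupOfEquivOfLe hCY0).toEquiv]
    have key : ∀ a b : A1, (QuotientGroup.mk a : A1 ⧸ A2.subgroupOf A1) = QuotientGroup.mk b ↔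
        (QuotientGroup.mk (⟨δ a, hδY0 a a.2⟩ : Y0) : Y0 ⧸ (Y ⊓ Fix).subgroupOf Y0) =
          QuotientGroup.mk ⟨δ b, hδY0 b b.2⟩ := fun a b => by
      rw [QuotientGroup.eq, QuotientGroup.eq, Subgroup.mem_subgroupOf, Subgroup.mem_subgroupOf]
      have hb : (b : A) = a * ((a : A)⁻¹ * b) := (mul_inv_cancel_left _ _).symm
      have e : ((a⁻¹ * b : A1) : A) = (a : A)⁻¹ * b := rfl
      show (a : A)⁻¹ * b ∈ A2 ↔ (δ a)⁻¹ * δ b ∈ Y ⊓ Fix
      conv_rhs => rw [hb, hδm, inv_mul_cancel_left]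
      set c := (a : A)⁻¹ * b
      have hc1 : c ∈ A1 := mul_mem (inv_mem a.2) b.2
      constructor
      · intro h; rw [h.2 a]; exact ⟨hδY c, h.2⟩
      · intro h
        refine ⟨hc1, ?_⟩
        have h' := h.2 (a : A)⁻¹
        rw [← MulAut.mul_apply, ← map_mul, inv_mul_cancel, map_one, MulAut.one_apply] at h'
        rw [h']; exact h.2
    have hle : (A2.subgroupOf A1).index ≤ ((Y ⊓ Fix).subgroupOf Y0).index :=
      Nat.card_le_card_of_injective
        (Quotient.lift (fun a : A1 => (QuotientGroup.mk (⟨δ a, hδY0 a a.2⟩ : Y0) : Y0 ⧸ (Y ⊓ Fix).subgroupOf Y0))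
          (fun a b h => (key a b).1 (Quotient.sound h)))
        (fun a b => by
          induction a using QuotientGroup.induction_on with | H a => ?_
          induction b using QuotientGroup.induction_on with | H b => ?_
          exact (key a b).2)
    calc Nat.card A2 * (A2.subgroupOf A1).index * Nat.card (Y ⊓ Fix : Subgroup D)
        ≤ Nat.card A2 * ((Y ⊓ Fix).subgroupOf Y0).index * Nat.card (Y ⊓ Fix : Subgroup D) := by gcongr
      _ = _ := by ring
  -- second bound
  have bound2 : Nat.card A ≤ p * Nat.card A1 := by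
    rw [← Subgroup.card_mul_index A1, mul_comm (Nat.card A1)]
    refine Nat.mul_le_mul_right _ ?_
    have key : ∀ a b : A, (QuotientGroup.mk a : A ⧸ A1) = QuotientGroup.mk b ↔ σs a y = σs b y := fun a b => by
      rw [QuotientGroup.eq]
      show σs (a⁻¹ * b) y = y ↔ _
      rw [map_mul, map_inv]
      show (σs a)⁻¹ (σs b y) = y ↔ _
      constructor
      · intro h; conv_lhs => rw [← h]
        exact (σs a).apply_symm_apply _
      · intro h; rw [← h]; exact (σs a).symm_apply_apply _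
    have hle : Nat.card (A ⧸ A1) ≤ Nat.card (Set.range fun i : Fin p => y + (i : ℕ) • e) := by
      refine Nat.card_le_card_of_injective
        (Quotient.lift (fun a : A => (⟨σs a y, ?_⟩ : Set.range fun i : Fin p => y + (i : ℕ) • e))
          (fun a b h => Subtype.ext ((key a b).1 (Quotient.sound h)))) ?_
      · obtain ⟨i, hi⟩ := hrank a
        refine ⟨⟨i % p, Nat.mod_lt _ hpr.pos⟩, ?_⟩
        show y + (i % p) • e = _
        rw [hi, nsmul_eq_mul, nsmul_eq_mul]
        conv_rhs => rw [← Nat.mod_add_div i p]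
        push_cast
        rw [show (p : Rs) = 0 from Subtype.ext (by push_cast; exact hpR), zero_mul, add_zero]
      · intro a b
        induction a using QuotientGroup.induction_on with | H a => ?_
        induction b using QuotientGroup.induction_on with | H b => ?_
        exact fun h => (key a b).2 (congrArg Subtype.val h)
    refine hle.trans ((Nat.card_le_card_of_surjective _ Set.rangeFactorization_surjective).trans ?_)
    simp
  -- third bound
  have bound3 : p * Nat.card Y0 < Nat.card Y := by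
    let t : Rs → Rs := fun r => σs g r - r
    have te : t e = 0 := by show σs g e - e = 0; rw [heσ, sub_self]
    have t1 : t y = e := by show σs g y - y = e; rw [hg]; ring
    have hey : e * y = y := by rw [mul_comm, hye]
    have t2 : t (y ^ 2) = 2 * y + e := by
      show σs g (y ^ 2) - y ^ 2 = _
      rw [map_pow, hg]; linear_combination 2 * hye + hee
    have t3 : t (y ^ 3) = 3 * y ^ 2 + 3 * y + e := by
      show σs g (y ^ 3) - y ^ 3 = _
      rw [map_pow, hg]; linear_combination 3 * y * hye + 3 * y * hee + 3 * hye + (e + 1) * hee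
    have t4 : t (y ^ 4) = 4 * y ^ 3 + 6 * y ^ 2 + 4 * y + e := by
      show σs g (y ^ 4) - y ^ 4 = _
      rw [map_pow, hg]
      linear_combination 4 * y ^ 2 * hye + 6 * y ^ 2 * hee + 6 * y * hye + 4 * y * (e + 1) * hee + 4 * hye +
        (e * e + e + 1) * hee
    have tadd : ∀ r s, t (r + s) = t r + t s := fun r s => by
      show σs g (r + s) - (r + s) = _
      rw [map_add]; show _ = σs g r - r + (σs g s - s); ring
    have tnat : ∀ (n : ℕ) r, t ((n : Rs) * r) = (n : Rs) * t r := fun n r => by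
      show σs g (n * r) - n * r = n * (σs g r - r)
      rw [map_mul, map_natCast]; ring
    have tnat' : ∀ (n : ℕ) [n.AtLeastTwo] r, t ((OfNat.ofNat n : Rs) * r) = (OfNat.ofNat n : Rs) * t r :=
      fun n _ r => tnat n r
    have u2 : t (t (y ^ 4)) = 12 * y ^ 2 + 24 * y + 14 * e := by
      simp only [t4, tadd, tnat', t3, t2, t1, te]; ring
    have u3 : t (t (t (y ^ 4))) = 24 * y + 36 * e := by
      simp only [u2, tadd, tnat', t2, t1, te]; ring
    have u4 : t (t (t (t (y ^ 4)))) = 24 * e := by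
      simp only [u3, tadd, tnat', t1, te]; ring
    have u5 : t (t (t (t (t (y ^ 4))))) = 0 := by
      simp only [u4, tnat', te]; ring
    let Δ : Rs → Additive (D ⧸ Z) := fun r => ev r x
    have hΔadd : ∀ r s, Δ (r + s) = Δ r + Δ s := fun r s => by
      show ev (r + s) x = _; rw [map_add]; rfl
    have hΔT : ∀ r, Δ (t r) = T g (Δ r) - Δ r := fun r => by
      show ev (σs g r - r) x = _
      rw [map_sub, hTev]; rfl
    let dW : Additive (D ⧸ Z) →+ Additive (D ⧸ Z) := AddMonoidHom.mk' (fun w => T g w - w)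
      (fun v w => by rw [map_add]; abel)
    have hΔd : ∀ r, Δ (t r) = dW (Δ r) := hΔT
    have h24 : dW (dW (dW (dW (Δ (y ^ 4))))) ≠ 0 := by
      rw [← hΔd, ← hΔd, ← hΔd, ← hΔd, u4]
      intro h
      have h' : (24 : ℤ) • x = 0 := by
        rw [← h]; show _ = ev ((24 : Rs) * e) x
        rw [map_mul, show ((24 : Rs)) = ((24 : ℕ) : Rs) from rfl, map_natCast]
        show _ = (((24 : ℕ) : AddMonoid.End (Additive (D ⧸ Z)))) (ev e x)
        rw [hxe, AddMonoid.End.natCast_apply]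
        exact natCast_zsmul x 24
      have hd : p ∣ 24 := Int.natCast_dvd_natCast.1 (dvd_of_zsmul_eq_zero hpW hx0 h')
      rw [show (24 : ℕ) = 2 ^ 3 * 3 by rfl] at hd
      rcases hpr.dvd_mul.1 hd with h | h
      · have := Nat.le_of_dvd two_pos (hpr.dvd_of_dvd_pow h); omega
      · have := Nat.le_of_dvd (by norm_num) h; omega
    have h50 : dW (dW (dW (dW (dW (Δ (y ^ 4)))))) = 0 := by
      rw [← hΔd, ← hΔd, ← hΔd, ← hΔd, ← hΔd, u5]
      show ev 0 x = 0
      rw [map_zero]; rfl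
    let c1 := δ g
    let c2 := (δ g)⁻¹ * α g (δ g)
    have hc2Y : c2 ∈ Y := by
      have h := hδm g g
      have : α g (δ g) = (δ g)⁻¹ * δ (g * g) := by rw [h, inv_mul_cancel_left]
      show (δ g)⁻¹ * α g (δ g) ∈ Y
      rw [this]
      exact mul_mem (inv_mem (hδY g)) (mul_mem (inv_mem (hδY g)) (hδY _))
    have hπc1 : π c1 = Δ (t (y ^ 4)) := hπδ g
    have hπc2 : π c2 = Δ (t (t (y ^ 4))) := by
      show π ((δ g)⁻¹ * α g (δ g)) = _
      rw [hπm, hπi, ← hT, hπc1, hΔT (t (y ^ 4)), neg_add_eq_sub]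
    let f : Fin p × Fin p → D := fun ij => c1 ^ (ij.1 : ℕ) * c2 ^ (ij.2 : ℕ)
    have hfY : ∀ ij, f ij ∈ Y := fun ij => mul_mem (pow_mem (hδY g) _) (pow_mem hc2Y _)
    have hinj : Function.Injective
        (fun ij => (QuotientGroup.mk (⟨f ij, hfY ij⟩ : Y) : Y ⧸ Y0.subgroupOf Y)) := by
      rintro ⟨i, j⟩ ⟨k, l⟩ h
      have h' : (f (i, j))⁻¹ * f (k, l) ∈ Y0 := Subgroup.mem_subgroupOf.1 (QuotientGroup.eq.1 h)
      have h1 : T g (π ((f (i, j))⁻¹ * f (k, l))) = π ((f (i, j))⁻¹ * f (k, l)) := h'.2 g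
      have hπf : π ((f (i, j))⁻¹ * f (k, l)) =
          ((k : ℤ) - i) • dW (Δ (y ^ 4)) + ((l : ℤ) - j) • dW (dW (Δ (y ^ 4))) := by
        simp only [f, hπm, hπi, hπp, hπc1, hπc2, hΔd, sub_zsmul, natCast_zsmul]
        abel
      rw [hπf] at h1
      obtain ⟨ha, hb⟩ := dvd_of_shift hpW dW (Δ (y ^ 4)) h24 h50
        (a := (k : ℤ) - i) (b := (l : ℤ) - j) (sub_eq_zero.2 h1)
      have ha0 := Int.eq_zero_of_abs_lt_dvd ha (by rw [abs_lt]; omega)
      have hb0 := Int.eq_zero_of_abs_lt_dvd hb (by rw [abs_lt]; omega)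
      exact Prod.ext (Fin.ext (show (i : ℕ) = k by omega)) (Fin.ext (show (j : ℕ) = l by omega))
    have h2 := Nat.card_le_card_of_injective _ hinj
    rw [Nat.card_prod, Nat.card_eq_fintype_card, Fintype.card_fin] at h2
    rw [← Subgroup.card_mul_index (Y0.subgroupOf Y), Nat.card_congr (Subgroup.subgroupOfEquivOfLe hY0Y).toEquiv]
    calc p * Nat.card Y0 < p * p * Nat.card Y0 :=
          Nat.mul_lt_mul_of_pos_right (lt_mul_self hpr.one_lt) Nat.card_pos
      _ ≤ (Y0.subgroupOf Y).index * Nat.card Y0 := Nat.mul_le_mul_right _ h2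
      _ = _ := mul_comm _ _
  calc Nat.card A * Nat.card (Y ⊓ Fix : Subgroup D) ≤ p * Nat.card A1 * Nat.card (Y ⊓ Fix : Subgroup D) :=
        Nat.mul_le_mul_right _ bound2
    _ ≤ p * (Nat.card A2 * Nat.card Y0) := by rw [mul_assoc]; exact Nat.mul_le_mul_left _ bound1
    _ = Nat.card A2 * (p * Nat.card Y0) := by ring
    _ < Nat.card A2 * Nat.card Y := Nat.mul_lt_mul_of_pos_left bound3 Nat.card_pos

end Cfsg.Agent.Lib.AbelianJ
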