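import Cfsg.Agent.Lib.AbelianJ.Larger
import Cfsg.Agent.Lib.PLocal.JZPair
import Cfsg.Agent.Lib.PGroups.Subnormal
import Cfsg.Agent.Lib.Transfer.Basic

/-!
For `p ≥ 5`, the subgroup generated by the abelian subgroups of largest order of a maximal Sylow subgroup of a
`p`-constrained group with a `p`-nilpotent factor is normal.
-/

set_option autoImplicit false
set_option linter.unusedSectionVars false

namespace Cfsg.Agent.Lib.AbelianJ

open scoped commutatorElement

universe u

/-- a proper-commutator fact for normal subgroups of `p`-groups -/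
theorem eq_bot_of_commutator_eq {X : Type u} [Group X] [Finite X] {p : ℕ} [Fact p.Prime] {D M : Subgroup X}
    (hM : IsPGroup p M) (hDM : D ≤ M) (h : ⁅D, M⁆ = D) : D = ⊥ := by
  haveI : Group.IsNilpotent M := hM.isNilpotent
  obtain ⟨n, hn⟩ := Subgroup.nilpotent_iff_lowerCentralSeries.1 (inferInstance : Group.IsNilpotent M)
  have key : ∀ k, D ≤ ((⊤ : Subgroup M).lowerCentralSeries k).map M.subtype := by
    intro k
    induction k with
    | zero => rwa [Subgroup.lowerCentralSeries_zero, ← MonoidHom.range_eq_map, Subgroup.range_subtype]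
    | succ k ih =>
      rw [Subgroup.lowerCentralSeries_succ, Subgroup.map_commutator, ← MonoidHom.range_eq_map,
        Subgroup.range_subtype]
      conv_lhs => rw [← h]
      exact Subgroup.commutator_mono ih le_rfl
  have := key n
  rwa [hn, Subgroup.map_bot, le_bot_iff] at this

/-- a group which is a complement to a maximal subgroup of `p`-power order is abelian and minimal normal -/
theorem complement_structure {Y : Type u} [Group Y] [Finite Y] {p : ℕ} [Fact p.Prime] (T : Sylow p Y)
    (hT : IsCoatom (T : Subgroup Y)) (N : Subgroup Y) [N.Normal] (hN : (Nat.card N).Coprime p)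
    (hNT : N.IsComplement' (T : Subgroup Y)) :
    (∀ a ∈ N, ∀ b ∈ N, a * b = b * a) ∧ ∀ N' : Subgroup Y, N'.Normal → N' ≤ N → N' = ⊥ ∨ N' = N := by
  have hint : N ⊓ (T : Subgroup Y) = ⊥ := disjoint_iff.1 hNT.disjoint
  have big : ∀ P : Subgroup Y, P ≤ N → (T : Subgroup Y) ≤ Subgroup.normalizer (P : Set Y) → P = ⊥ ∨ P = N := by
    intro P hP hnorm
    by_cases hPT : P ≤ (T : Subgroup Y)
    · exact Or.inl (le_bot_iff.1 (hint ▸ le_inf hP hPT))
    · right
      have htop : P ⊔ (T : Subgroup Y) = ⊤ :=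
        hT.2 _ (lt_of_le_of_ne le_sup_right fun h => hPT (le_sup_left.trans h.ge))
      refine le_antisymm hP fun n hn => ?_
      have hmem : n ∈ ((P ⊔ (T : Subgroup Y) : Subgroup Y) : Set Y) := by rw [htop]; trivial
      rw [Subgroup.coe_mul_of_right_le_normalizer_left P _ hnorm] at hmem
      obtain ⟨x, hx, t, ht, hxt⟩ := hmem
      subst hxt
      have h1 : t ∈ N ⊓ (T : Subgroup Y) := ⟨by simpa using mul_mem (inv_mem (hP hx)) hn, ht⟩
      rw [hint, Subgroup.mem_bot] at h1
      simpa [h1] using hx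
  have hmin : ∀ N' : Subgroup Y, N'.Normal → N' ≤ N → N' = ⊥ ∨ N' = N := fun N' hN' h =>
    big N' h (by haveI := hN'; rw [Subgroup.normalizer_eq_top]; exact le_top)
  refine ⟨?_, hmin⟩
  by_cases hb : N = ⊥
  · subst hb
    intro a ha b hb'
    rw [Subgroup.mem_bot.1 ha, Subgroup.mem_bot.1 hb']
  obtain ⟨q, hq, hqN⟩ := Nat.exists_prime_and_dvd (mt Subgroup.card_eq_one.1 hb)
  haveI : Fact q.Prime := ⟨hq⟩
  obtain ⟨Q⟩ : Nonempty (Sylow q N) := inferInstance
  set Q' := (Q : Subgroup N).map N.subtype with hQ'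
  have hfr : Subgroup.normalizer (Q' : Set Y) ⊔ N = ⊤ := Sylow.normalizer_sup_eq_top Q
  set H := Subgroup.normalizer (Q' : Set Y) with hH
  -- a Sylow subgroup of the normalizer is a Sylow subgroup
  obtain ⟨T'⟩ : Nonempty (Sylow p H) := inferInstance
  set T'' := (T' : Subgroup H).map H.subtype with hT''
  have hindex : ¬ p ∣ H.index := by
    intro h
    have h1 : H.index ∣ Nat.card N := by
      have e1 : N.relIndex H = N.index := by
        rw [← Subgroup.relIndex_sup_right (H := H) (K := N), hfr, Subgroup.relIndex_top_right]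
      refine ⟨Nat.card (N.subgroupOf H), Nat.eq_of_mul_eq_mul_left (Nat.pos_of_ne_zero N.index_ne_zero_of_finite) ?_⟩
      rw [mul_comm N.index (Nat.card N), Subgroup.card_mul_index, ← mul_assoc, mul_comm N.index H.index, mul_assoc,
        ← e1, Subgroup.relIndex, mul_comm _ (Nat.card (N.subgroupOf H)), Subgroup.card_mul_index, mul_comm,
        Subgroup.card_mul_index]
    exact (Fact.out (p := p.Prime)).not_dvd_one (hN ▸ Nat.dvd_gcd (h.trans h1) dvd_rfl)
  have hT''i : ¬ p ∣ T''.index := by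
    rw [hT'', Subgroup.index_map_subtype]
    exact fun h => ((Fact.out (p := p.Prime)).dvd_mul.1 h).elim T'.not_dvd_index hindex
  let TT : Sylow p Y := (T'.2.map H.subtype).toSylow hT''i
  obtain ⟨g, hg⟩ := MulAction.exists_smul_eq Y TT T
  set P := Q'.map (MulAut.conj g).toMonoidHom with hP
  have hPN : P ≤ N := by
    rintro _ ⟨x, hx, rfl⟩
    exact ‹N.Normal›.conj_mem x (Subgroup.map_subtype_le _ hx) g
  have hTP : (T : Subgroup Y) ≤ Subgroup.normalizer (P : Set Y) := by
    rw [hP]
    refine le_trans ?_ (Subgroup.le_normalizer_map _)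
    rw [← hg]
    show (TT : Subgroup Y).map (MulAut.conj g).toMonoidHom ≤ _
    exact Subgroup.map_mono (Subgroup.map_subtype_le _)
  have hPne : P ≠ ⊥ := by
    rw [hP, hQ', Ne, Subgroup.map_eq_bot_iff_of_injective _ (MulAut.conj g).injective,
      Subgroup.map_eq_bot_iff_of_injective _ N.subtype_injective]
    exact Q.ne_bot_of_dvd_card hqN
  have hPeq := (big P hPN hTP).resolve_left hPne
  have hPq : IsPGroup q N := hPeq ▸ ((Q.2.map N.subtype).map _)
  rcases hmin ⁅N, N⁆ inferInstance (Subgroup.commutator_le_left N N) with h | h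
  · intro a ha b hb'
    exact commutatorElement_eq_one_iff_mul_comm.1 (Subgroup.mem_bot.1 (h ▸ Subgroup.commutator_mem_commutator ha hb'))
  · exact absurd (eq_bot_of_commutator_eq hPq le_rfl h) hb

variable {X : Type u} [Group X] [Finite X] {p : ℕ} [Fact p.Prime]

/-- the main local lemma -/
theorem maxAbelian_le_pCore (hp : 5 ≤ p) (hC : Subgroup.centralizer (Cfsg.pCore p X : Set X) ≤ Cfsg.pCore p X)
    [hMn : (Cfsg.pCore p X).Normal] (hN : Cfsg.HasNormalPComplement p (X ⧸ Cfsg.pCore p X))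
    (T : Sylow p X) (hT : IsCoatom (T : Subgroup X)) {A : Subgroup X} (hAT : A ≤ (T : Subgroup X))
    (hAc : ∀ a ∈ A, ∀ b ∈ A, a * b = b * a)
    (hAmax : ∀ B : Subgroup X, B ≤ (T : Subgroup X) → (∀ a ∈ B, ∀ b ∈ B, a * b = b * a) → Nat.card B ≤ Nat.card A) :
    A ≤ Cfsg.pCore p X := by
  classical
  by_contra hAM
  set M := Cfsg.pCore p X with hM
  have hMp : IsPGroup p M := PGroups.isPGroup_pCore_base p
  have hMT : M ≤ (T : Subgroup X) := hMp.le_sylow_of_normal T
  set φ := QuotientGroup.mk' M with hφ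
  have hφs : Function.Surjective φ := QuotientGroup.mk'_surjective M
  have hker : φ.ker = M := QuotientGroup.ker_mk' M
  -- the preimage of the complement
  obtain ⟨P₀, N, hNn, hNP⟩ := hN
  haveI := hNn
  let T₁ : Sylow p (X ⧸ M) := T.mapSurjective hφs
  have hT₁ : (T₁ : Subgroup (X ⧸ M)) = (T : Subgroup X).map φ := rfl
  have hcT : IsCoatom (T₁ : Subgroup (X ⧸ M)) := by
    refine ⟨fun h => hT.1 ?_, fun B hB => ?_⟩
    · have h' := congrArg (Subgroup.comap φ) h
      rwa [hT₁, Subgroup.comap_map_eq_self (hker.le.trans hMT), Subgroup.comap_top] at h'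
    · have hlt : (T : Subgroup X) < B.comap φ := by
        refine lt_of_le_of_ne (Subgroup.map_le_iff_le_comap.1 (hT₁ ▸ hB.le)) fun h => hB.ne ?_
        rw [hT₁, h, Subgroup.map_comap_eq_self_of_surjective hφs]
      rw [← Subgroup.map_comap_eq_self_of_surjective hφs B, hT.2 _ hlt, Subgroup.map_top_of_surjective φ hφs]
  have hNco : (Nat.card N).Coprime p := Transfer.coprime_card_of_isComplement' hNP
  have hNT : N.IsComplement' (T₁ : Subgroup (X ⧸ M)) := by
    refine Subgroup.isComplement'_of_coprime ?_ ?_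
    · have h1 := hNP.card_mul
      rw [← h1, Sylow.card_eq_multiplicity T₁, Sylow.card_eq_multiplicity P₀]
    · rw [Sylow.card_eq_multiplicity T₁]
      exact Nat.Coprime.pow_right _ hNco
  obtain ⟨hNab, hNmin⟩ := complement_structure T₁ hcT N hNco hNT
  set K := N.comap φ with hK
  haveI hKn : K.Normal := hNn.comap φ
  have hMK : M ≤ K := hker ▸ Subgroup.ker_le_comap φ N
  have hKcomm : ∀ a ∈ K, ∀ b ∈ K, ⁅a, b⁆ ∈ M := fun a ha b hb => by
    rw [← hker, MonoidHom.mem_ker, map_commutatorElement, commutatorElement_eq_one_iff_mul_comm]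
    exact hNab _ ha _ hb
  have hKmin : ∀ K' : Subgroup X, K'.Normal → M ≤ K' → K' ≤ K → K' = M ∨ K' = K := by
    intro K' hK' h1 h2
    have hback : (K'.map φ).comap φ = K' := Subgroup.comap_map_eq_self (hker.le.trans h1)
    rcases hNmin (K'.map φ) (hK'.map φ hφs) ((Subgroup.map_mono h2).trans (Subgroup.map_comap_le _ _)) with h | h
    · left; rw [← hback, h, MonoidHom.comap_bot, hker]
    · right; rw [← hback, h]
  set L := Cfsg.pResidual p X with hL
  haveI hLn : L.Normal := Transfer.pResidual_normal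
  have hqK : ∀ g : X, (orderOf g).Coprime p → g ∈ K := fun g hg =>
    (Transfer.mem_iff_coprime hNP (φ g)).2 (Nat.Coprime.coprime_dvd_left (orderOf_map_dvd φ g) hg)
  have hLK : L ≤ K := (Subgroup.closure_le _).2 hqK
  have hLgen : ∀ D : Subgroup X, (∀ g : X, (orderOf g).Coprime p → ∀ d ∈ D, g * d = d * g) →
      L ≤ Subgroup.centralizer (D : Set X) := fun D h =>
    (Subgroup.closure_le _).2 fun g hg => Subgroup.mem_centralizer_iff.2 fun d hd => (h g hg d hd).symm
  -- coprime action: commuting commutators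
  have hstab : ∀ D : Subgroup X, D ≤ M → D.Normal → ⁅D, L⁆ ≤ Subgroup.centralizer (L : Set X) →
      L ≤ Subgroup.centralizer (D : Set X) := by
    intro D hDM hDn h
    refine hLgen D fun g hg d hd => ?_
    have hgL : g ∈ L := Subgroup.subset_closure hg
    set c := d⁻¹ * (g * d * g⁻¹) with hc
    have hcD : c ∈ D := mul_mem (inv_mem hd) (hDn.conj_mem d hd g)
    have hcg : g * c = c * g := by
      have := h (Subgroup.commutator_mem_commutator (inv_mem hd) hgL)
      rw [show ⁅d⁻¹, g⁆ = c by rw [commutatorElement_def, hc]; group] at this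
      exact Subgroup.mem_centralizer_iff.1 this g hgL
    have hit : ∀ n : ℕ, g ^ n * d * (g ^ n)⁻¹ = d * c ^ n := by
      intro n
      induction n with
      | zero => simp
      | succ n ih =>
        have e : g * c ^ n * g⁻¹ = c ^ n := mul_inv_eq_of_eq_mul (Commute.pow_right hcg n).eq
        calc g ^ (n + 1) * d * (g ^ (n + 1))⁻¹ = g * (g ^ n * d * (g ^ n)⁻¹) * g⁻¹ := by rw [pow_succ']; group
          _ = (g * d * g⁻¹) * (g * c ^ n * g⁻¹) := by rw [ih]; group
          _ = d * c * c ^ n := by rw [e, hc]; group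
          _ = d * c ^ (n + 1) := by rw [pow_succ']; group
    have h1 := hit (orderOf g)
    rw [pow_orderOf_eq_one, one_mul, inv_one, mul_one, left_eq_mul] at h1
    have hc1 : c = 1 := by
      obtain ⟨k, hk⟩ := hMp ⟨c, hDM hcD⟩
      have hk' : c ^ p ^ k = 1 := congrArg Subtype.val hk
      have := pow_gcd_eq_one.2 ⟨h1, hk'⟩
      rwa [(Nat.Coprime.pow_right k hg : Nat.gcd _ _ = 1), pow_one] at this
    rw [hc, inv_mul_eq_one] at hc1
    exact (mul_inv_eq_iff_eq_mul.1 hc1.symm)
  have hLM : ¬ L ≤ Subgroup.centralizer (M : Set X) := fun h => by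
    have hLM' : L ≤ M := h.trans hC
    have hall : IsPGroup p X := by
      intro g
      obtain ⟨i, r, hr, hdecomp⟩ := Nat.exists_eq_pow_mul_and_not_dvd (orderOf_pos g).ne' p (Fact.out (p := p.Prime)).ne_one
      have hcop : (orderOf (g ^ p ^ i)).Coprime p := by
        rw [orderOf_pow, hdecomp, Nat.gcd_eq_right (dvd_mul_right _ _),
          Nat.mul_div_cancel_left _ (pow_pos (Fact.out (p := p.Prime)).pos _)]
        exact ((Fact.out (p := p.Prime)).coprime_iff_not_dvd.2 hr).symm
      refine ⟨i, ?_⟩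
      exact Transfer.eq_one_of_isPGroup_of_coprime hMp (hLM' (Subgroup.subset_closure hcop)) hcop
    exact hT.1 (T.is_maximal' (Q := ⊤) (hall.to_subgroup ⊤) le_top).symm
  -- a minimal normal subgroup of `M` that is moved by `L`
  let 𝒟 : Set (Subgroup X) := {D | D.Normal ∧ D ≤ M ∧ ¬ L ≤ Subgroup.centralizer (D : Set X)}
  obtain ⟨D, ⟨hDn, hDM, hDL⟩, hDmin⟩ :=
    (Set.toFinite 𝒟).exists_minimal ⟨M, hMn, le_rfl, hLM⟩
  haveI := hDn
  set Z0 := D ⊓ Subgroup.centralizer (L : Set X) with hZ0
  haveI : (Subgroup.centralizer (L : Set X)).Normal := inferInstance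
  haveI hZ0n : Z0.Normal := Subgroup.normal_inf_normal _ _
  have hproper : ∀ D' : Subgroup X, D'.Normal → D' ≤ D → D' ≠ D → D' ≤ Z0 := by
    intro D' h1 h2 h3
    refine le_inf h2 ?_
    rw [Subgroup.le_centralizer_iff]
    by_contra h
    exact h3 (le_antisymm h2 (hDmin ⟨h1, h2.trans hDM, h⟩ h2))
  have hDne : D ≠ ⊥ := fun h => hDL (by rw [h]; exact fun g _ => Subgroup.mem_centralizer_iff.2 fun d hd => (Subgroup.mem_bot.1 hd).symm ▸ (one_mul g).trans (mul_one g).symm)
  have hZD : Z0 ≠ D := fun h => hDL (by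
    rw [Subgroup.le_centralizer_iff]; exact h.ge.trans inf_le_right)
  have hDLeq : ⁅D, L⁆ = D := by
    by_contra h
    exact hDL (hstab D hDM hDn ((hproper _ inferInstance (Subgroup.commutator_le_left D L) h).trans inf_le_right))
  have hDp : IsPGroup p D := hMp.to_le hDM
  have hDD : ⁅D, D⁆ ≤ Z0 := hproper _ inferInstance (Subgroup.commutator_le_left D D) fun h =>
    hDne (eq_bot_of_commutator_eq hDp le_rfl h)
  have hDMZ : ⁅D, M⁆ ≤ Z0 := hproper _ inferInstance (Subgroup.commutator_le_left D M) fun h =>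
    hDne (eq_bot_of_commutator_eq hMp hDM h)
  have hZc : ⁅Z0, D⁆ = ⊥ := by
    have h1 : ⁅⁅D, L⁆, Z0⁆ = ⊥ := by
      refine Subgroup.commutator_commutator_eq_bot_of_rotate ?_ ?_
      · rw [Subgroup.commutator_eq_bot_iff_le_centralizer.2 (show L ≤ Subgroup.centralizer (Z0 : Set X) from
          Subgroup.le_centralizer_iff.1 inf_le_right)]
        exact Subgroup.commutator_bot_left D
      · rw [Subgroup.commutator_eq_bot_iff_le_centralizer]
        exact (Subgroup.commutator_le_left Z0 D).trans inf_le_right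
    rw [hDLeq] at h1
    rw [Subgroup.commutator_comm]
    exact h1
  -- the data for the abstract lemma
  let Z : Subgroup D := Z0.subgroupOf D
  have hmemZ : ∀ d : D, d ∈ Z ↔ (d : X) ∈ Z0 := fun d => Iff.rfl
  haveI hZn : Z.Normal := hZ0n.subgroupOf D
  have hZcen : Z ≤ Subgroup.center D := fun z hz => Subgroup.mem_center_iff.2 fun d => Subtype.ext (by
    have := Subgroup.commutator_mem_commutator ((hmemZ z).1 hz) d.2
    rw [hZc, Subgroup.mem_bot, commutatorElement_eq_one_iff_mul_comm] at this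
    exact this.symm)
  have hder : ∀ u v : D, ⁅u, v⁆ ∈ Z := fun u v => hDD (Subgroup.commutator_mem_commutator u.2 v.2)
  have hpow : ∀ u : D, u ^ p ∈ Z := by
    let N' := Z0 ⊔ Subgroup.closure (Set.range fun d : D => (d : X) ^ p)
    have hN'n : N'.Normal := by
      haveI : (Subgroup.closure (Set.range fun d : D => (d : X) ^ p)).Normal := by
        constructor
        intro x hx g
        induction hx using Subgroup.closure_induction with
        | mem x hx =>
          obtain ⟨d, rfl⟩ := hx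
          refine Subgroup.subset_closure ⟨⟨g * d * g⁻¹, hDn.conj_mem d d.2 g⟩, ?_⟩
          exact conj_pow
        | one => simp
        | mul a b _ _ iha ihb =>
          rw [show g * (a * b) * g⁻¹ = (g * a * g⁻¹) * (g * b * g⁻¹) by group]; exact mul_mem iha ihb
        | inv a _ iha => rw [show g * a⁻¹ * g⁻¹ = (g * a * g⁻¹)⁻¹ by group]; exact inv_mem iha
      exact Subgroup.sup_normal _ _
    have hN'D : N' ≤ D := sup_le inf_le_left ((Subgroup.closure_le _).2 (by
      rintro _ ⟨d, rfl⟩; exact pow_mem d.2 p))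
    by_cases hN' : N' = D
    · exfalso
      letI : CommGroup (D ⧸ Z) :=
        { (inferInstance : Group (D ⧸ Z)) with
          mul_comm := by
            intro a b
            induction a using QuotientGroup.induction_on with | H a => ?_
            induction b using QuotientGroup.induction_on with | H b => ?_
            rw [← QuotientGroup.mk_mul, ← QuotientGroup.mk_mul, QuotientGroup.eq]
            have h := hder b⁻¹ a⁻¹
            rw [commutatorElement_def] at h
            simpa [mul_assoc] using h }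
      let f : (D ⧸ Z) →* (D ⧸ Z) := powMonoidHom p
      have hsurj : Function.Surjective f := by
        have key : N' ≤ (f.range.comap (QuotientGroup.mk' Z)).map D.subtype := by
          refine sup_le (fun z hz => ⟨⟨z, hz.1⟩, ⟨1, ?_⟩, rfl⟩) ((Subgroup.closure_le _).2 ?_)
          · exact (map_one f).trans ((QuotientGroup.eq_one_iff (⟨z, hz.1⟩ : D)).2 hz).symm
          · rintro _ ⟨d, rfl⟩
            exact ⟨d ^ p, ⟨(d : D ⧸ Z), rfl⟩, rfl⟩
        intro w
        induction w using QuotientGroup.induction_on with | H d => ?_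
        obtain ⟨d', hd', hdd⟩ := key (hN'.ge d.2)
        obtain rfl : d' = d := Subtype.ext hdd
        exact hd'
      have hinj : Function.Injective f := Finite.injective_iff_surjective.2 hsurj
      refine hZD (le_antisymm inf_le_left fun d hd => ?_)
      have hq : IsPGroup p (D ⧸ Z) := hDp.to_quotient Z
      obtain ⟨k, hk⟩ := hq (QuotientGroup.mk (⟨d, hd⟩ : D))
      have hall : ∀ k (w : D ⧸ Z), w ^ p ^ k = 1 → w = 1 := fun k => by
        induction k with
        | zero => intro w h; simpa using h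
        | succ k ih =>
          intro w h
          rw [pow_succ', pow_mul] at h
          exact hinj ((ih (w ^ p) h).trans (map_one f).symm)
      exact (QuotientGroup.eq_one_iff (⟨d, hd⟩ : D)).1 (hall k _ hk)
    · intro u
      exact hproper N' hN'n hN'D hN' (Subgroup.mem_sup_right (Subgroup.subset_closure ⟨u, rfl⟩))
  letI : CommGroup A := { (inferInstance : Group A) with mul_comm := fun a b => Subtype.ext (hAc a a.2 b b.2) }
  let cj : X →* MulAut D := MulAut.conjNormal
  have hcj : ∀ (g : X) (d : D), (cj g d : X) = g * d * g⁻¹ := fun g d => MulAut.conjNormal_apply g d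
  let α : A →* MulAut D := cj.comp A.subtype
  let H : Subgroup (MulAut D) := L.map cj
  set m := Nat.card N with hm
  have hKW : ∀ μ ∈ M, ∀ u : D, u⁻¹ * cj μ u ∈ Z := fun μ hμ u => by
    rw [hmemZ, Subgroup.coe_mul, hcj, Subgroup.coe_inv]
    have := hDMZ (Subgroup.commutator_mem_commutator (inv_mem u.2) hμ)
    rw [commutatorElement_def, inv_inv] at this
    simpa only [mul_assoc] using this
  have happ := exists_larger (A := A) hp Z hZcen hder hpow (T.2.to_le hAT) α
    (fun a z hz => by
      rw [hmemZ, show ((α a) z : X) = _ from hcj (a : X) z]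
      exact hZ0n.conj_mem _ ((hmemZ z).1 hz) _)
    H ?_ ?_ (m := m) hNco ?_ ?_ ?_
  rotate_left
  · rintro _ ⟨l, hl, rfl⟩ z hz
    refine Subtype.ext ?_
    rw [hcj]
    exact mul_inv_eq_of_eq_mul (Subgroup.mem_centralizer_iff.1 ((hmemZ z).1 hz).2 l hl)
  · rintro _ ⟨h, hh, rfl⟩ _ ⟨k, hk, rfl⟩ u
    have hμ : ⁅k, h⁆ ∈ M := hKcomm k (hLK hk) h (hLK hh)
    have e : cj k (cj h u) = cj ⁅k, h⁆ (cj h (cj k u)) := by
      rw [← MulAut.mul_apply, ← MulAut.mul_apply, ← MulAut.mul_apply, ← map_mul, ← map_mul, ← map_mul,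
        commutatorElement_def]
      congr 2
      group
    rw [e]
    exact hKW _ hμ _
  · rintro _ ⟨h, hh, rfl⟩ u
    rw [← map_pow]
    refine hKW _ ?_ u
    rw [← hker, MonoidHom.mem_ker, map_pow]
    exact congrArg Subtype.val (pow_card_eq_one' (x := (⟨φ h, hLK hh⟩ : N)))
  · rintro a _ ⟨h, hh, rfl⟩
    refine ⟨(a : X) * h * (a : X)⁻¹, hLn.conj_mem h hh _, ?_⟩
    rw [map_mul, map_mul, map_inv]
    rfl
  · -- `A` moves the operators
    by_contra hcon
    push_neg at hcon
    obtain ⟨a, haA, haM⟩ := SetLike.not_le_iff_exists.1 hAM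
    apply haM
    let Kw : Subgroup X :=
      { carrier := {k | k ∈ K ∧ ∀ u : D, u⁻¹ * cj k u ∈ Z}
        one_mem' := ⟨one_mem _, fun u => by rw [map_one, MulAut.one_apply, inv_mul_cancel]; exact one_mem _⟩
        mul_mem' := fun {k l} hk hl => ⟨mul_mem hk.1 hl.1, fun u => by
          rw [map_mul, MulAut.mul_apply,
            show u⁻¹ * cj k (cj l u) = (u⁻¹ * cj l u) * ((cj l u)⁻¹ * cj k (cj l u)) by group]
          exact mul_mem (hl.2 u) (hk.2 _)⟩
        inv_mem' := fun {k} hk => ⟨inv_mem hk.1, fun u => by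
          have := inv_mem (hk.2 (cj k⁻¹ u))
          rw [← MulAut.mul_apply, ← map_mul, mul_inv_cancel, map_one, MulAut.one_apply, mul_inv_rev, inv_inv] at this
          exact this⟩ }
    have hKwn : Kw.Normal := ⟨fun k hk g => ⟨hKn.conj_mem k hk.1 g, fun u => by
      have h := hk.2 (cj g⁻¹ u)
      have h2 : cj g ((cj g⁻¹ u)⁻¹ * cj k (cj g⁻¹ u)) ∈ Z := by
        rw [hmemZ, hcj]; exact hZ0n.conj_mem _ ((hmemZ _).1 h) g
      rw [map_mul, map_inv, ← MulAut.mul_apply, ← map_mul, mul_inv_cancel, map_one, MulAut.one_apply,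
        ← MulAut.mul_apply, ← MulAut.mul_apply, ← map_mul, ← map_mul] at h2
      exact h2⟩⟩
    have hKwM : Kw = M := by
      refine (hKmin Kw hKwn (fun μ hμ => ⟨hMK hμ, hKW μ hμ⟩) fun k hk => hk.1).resolve_right fun h => ?_
      refine hZD (le_antisymm inf_le_left ?_)
      conv_lhs => rw [← hDLeq]
      rw [Subgroup.commutator_le]
      intro d hd l hl
      have hl' : l ∈ Kw := h ▸ hLK hl
      have := (hmemZ _).1 (hl'.2 (⟨d, hd⟩⁻¹ : D))
      rw [Subgroup.coe_mul, hcj, inv_inv] at this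
      rw [commutatorElement_def]
      simpa [mul_assoc] using this
    have hal : ∀ l ∈ L, ⁅a, l⁆ ∈ M := fun l hl => by
      have hmem : ⁅a, l⁆ ∈ L := by
        rw [commutatorElement_def, mul_assoc, mul_assoc, ← mul_assoc]
        have := hLn.conj_mem l hl a
        simpa [mul_assoc] using mul_mem this (inv_mem hl)
      rw [← hKwM]
      refine ⟨hLK hmem, fun u => ?_⟩
      have h := inv_mem (hcon ⟨a, haA⟩ _ ⟨l, hl, rfl⟩ (cj (a⁻¹ * l⁻¹) u))
      show u⁻¹ * cj ⁅a, l⁆ u ∈ Z
      rw [show α ⟨a, haA⟩ = cj a from rfl] at h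
      simp only [← MulAut.mul_apply, ← map_mul, mul_inv_rev, inv_inv] at h
      rw [show a * (l * (a⁻¹ * l⁻¹)) = ⁅a, l⁆ by rw [commutatorElement_def]; group,
        show l * (a * (a⁻¹ * l⁻¹)) = 1 by group, map_one, MulAut.one_apply] at h
      exact h
    have hLMK : L ⊔ M = K := by
      refine (hKmin _ (Subgroup.sup_normal _ _) le_sup_right (sup_le hLK hMK)).resolve_left fun h => ?_
      have hLM' : L ≤ M := le_sup_left.trans h.le
      have hbot : ∀ g : X, (orderOf g).Coprime p → g = 1 := fun g hg =>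
        Transfer.eq_one_of_isPGroup_of_coprime hMp (hLM' (Subgroup.subset_closure hg)) hg
      exact hLM (hLgen M fun g hg d _ => by rw [hbot g hg, one_mul, mul_one])
    have haK : ∀ k ∈ K, ⁅a, k⁆ ∈ M := fun k hk => by
      have hk' : k ∈ ((L ⊔ M : Subgroup X) : Set X) := hLMK.symm ▸ hk
      rw [Subgroup.mul_normal] at hk'
      obtain ⟨l, hl, μ, hμ, rfl⟩ := hk'
      show a * (l * μ) * a⁻¹ * (l * μ)⁻¹ ∈ M
      have e : a * (l * μ) * a⁻¹ * (l * μ)⁻¹ = ⁅a, l⁆ * (l * ((a * μ * a⁻¹) * μ⁻¹) * l⁻¹) := by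
        rw [commutatorElement_def]; group
      rw [e]
      exact mul_mem (hal l hl) (hMn.conj_mem _ (mul_mem (hMn.conj_mem μ hμ a) (inv_mem hμ)) l)
    -- elements of `T` centralising `K` modulo `M`
    let N₂ : Subgroup X := (Subgroup.centralizer (N : Set (X ⧸ M))).comap φ ⊓ (T : Subgroup X)
    have haN₂ : a ∈ N₂ := ⟨Subgroup.mem_centralizer_iff.2 fun n hn => by
      obtain ⟨k, rfl⟩ := hφs n
      rw [eq_comm, ← commutatorElement_eq_one_iff_mul_comm, ← map_commutatorElement, ← MonoidHom.mem_ker, hker]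
      exact haK k hn, hAT haA⟩
    have hN₂M : M ≤ N₂ := le_inf (fun μ hμ => by
      rw [Subgroup.mem_comap, show φ μ = 1 by rwa [← MonoidHom.mem_ker, hker]]; exact one_mem _) hMT
    have hN₂n : N₂.Normal := by
      refine ⟨fun x hx g => ⟨((inferInstance : (Subgroup.centralizer (N : Set (X ⧸ M))).Normal).comap φ).conj_mem x hx.1 g, ?_⟩⟩
      have hg : φ g ∈ ((N ⊔ (T₁ : Subgroup (X ⧸ M)) : Subgroup (X ⧸ M)) : Set (X ⧸ M)) := by
        rw [hNT.sup_eq_top]; trivial
      rw [sup_comm, Subgroup.mul_normal] at hg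
      obtain ⟨t₁, ⟨t, ht, rfl⟩, n, hn, hgtn⟩ := hg
      have hT' : (T : Subgroup X) = ((T : Subgroup X).map φ).comap φ :=
        (Subgroup.comap_map_eq_self (hker.le.trans hMT)).symm
      show g * x * g⁻¹ ∈ (T : Subgroup X)
      rw [hT', Subgroup.mem_comap, map_mul, map_mul, map_inv, ← hgtn]
      have hcn : n * φ x = φ x * n := Subgroup.mem_centralizer_iff.1 hx.1 n hn
      refine ⟨t * x * t⁻¹, mul_mem (mul_mem ht hx.2) (inv_mem ht), ?_⟩
      rw [map_mul, map_mul, map_inv]
      show φ t * φ x * (φ t)⁻¹ = φ t * n * φ x * (φ t * n)⁻¹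
      rw [mul_assoc (φ t) n, hcn]; group
    exact PGroups.le_pCore_of_normal hN₂n (T.2.to_le inf_le_right) haN₂
  obtain ⟨A2, Y, C, hYc, hfix, hCmem, hlt⟩ := happ
  let f : A2 × Y →* X := MonoidHom.noncommCoprod (A.subtype.comp A2.subtype) (D.subtype.comp Y.subtype)
    (fun a y => by
      have := congrArg Subtype.val (hfix a a.2 y y.2)
      rw [show ((α (a : A)) (y : D) : X) = _ from hcj _ _] at this
      exact mul_inv_eq_iff_eq_mul.1 this)
  have hfr : f.range ≤ (T : Subgroup X) := by
    rintro _ ⟨⟨a, y⟩, rfl⟩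
    exact mul_mem (hAT (a : A).2) (hMT (hDM (y : D).2))
  have hfc : ∀ u ∈ f.range, ∀ v ∈ f.range, u * v = v * u := by
    rintro _ ⟨⟨a, y⟩, rfl⟩ _ ⟨⟨b, z⟩, rfl⟩
    rw [← map_mul, ← map_mul]
    congr 1
    exact Prod.ext (mul_comm a b) (Subtype.ext (hYc y y.2 z z.2))
  have hker' : Nat.card f.ker ≤ Nat.card C := by
    have hmem : ∀ x : f.ker, ((x.1.2 : Y) : D) ∈ C := fun x => by
      refine hCmem _ x.1.2.2 fun a => Subtype.ext ?_
      have h1 : ((x.1.1 : A) : X) * ((x.1.2 : D) : X) = 1 := x.2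
      rw [show ((α a) (x.1.2 : D) : X) = _ from hcj _ _, eq_inv_of_mul_eq_one_right h1]
      exact mul_inv_eq_of_eq_mul (hAc _ a.2 _ (inv_mem (x.1.1 : A).2))
    refine Nat.card_le_card_of_injective (fun x : f.ker => (⟨_, hmem x⟩ : C)) ?_
    intro x x' h
    have h2 : x.1.2 = x'.1.2 := Subtype.ext (congrArg (fun c : C => (c : D)) h)
    have e1 : ((x.1.1 : A) : X) * ((x.1.2 : D) : X) = 1 := x.2
    have e2 : ((x'.1.1 : A) : X) * ((x'.1.2 : D) : X) = 1 := x'.2
    rw [h2, ← e2] at e1
    exact Subtype.ext (Prod.ext (Subtype.ext (Subtype.ext (mul_right_cancel e1))) h2)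
  have hcard : Nat.card A2 * Nat.card Y = Nat.card f.range * Nat.card f.ker := by
    rw [← Nat.card_prod, ← Subgroup.card_mul_index f.ker, Subgroup.index_ker, mul_comm]
  have := hAmax f.range hfr hfc
  nlinarith [Nat.mul_le_mul this hker']

end Cfsg.Agent.Lib.AbelianJ
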