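import Mathlib

/-!
A nontrivial action of a `p`-group on a finite reduced commutative ring of characteristic `p` moves some
element by a multiple of a fixed idempotent.
-/

set_option autoImplicit false

namespace Cfsg.Agent.Lib.AbelianJ

open Polynomial

variable {R : Type*} [CommRing R] {p : ℕ} [Fact p.Prime]

theorem prod_sub_cast [CharP R p] (v : R) :
    ∏ i : ZMod p, (v - ZMod.castHom (dvd_refl p) R i) = v ^ p - v := by
  have hp1 : 1 < p := (Fact.out (p := p.Prime)).one_lt
  have hr := FiniteField.roots_X_pow_card_sub_X (ZMod p)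
  rw [ZMod.card] at hr
  have hm : (X ^ p - X : (ZMod p)[X]).Monic :=
    Polynomial.monic_X_pow_sub (by rw [Polynomial.degree_X]; exact_mod_cast hp1)
  have hd := FiniteField.X_pow_card_sub_X_natDegree_eq (ZMod p) hp1
  have h : ∏ i : ZMod p, (X - C i) = (X ^ p - X : (ZMod p)[X]) := by
    rw [← Polynomial.prod_multiset_X_sub_C_of_monic_of_roots_card_eq hm (by rw [hr, hd]; simp), hr]
    rfl
  have h2 := congrArg (Polynomial.eval₂ (ZMod.castHom (dvd_refl p) R) v) h
  simpa [Polynomial.eval₂_finsetProd] using h2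

variable [Finite R] {A : Type*} [Group A] [Finite A]

theorem exists_shift (hp0 : (p : R) = 0) {q : ℕ} (hq : 2 ≤ q) (hR : ∀ r : R, r ^ q = r)
    (hA : IsPGroup p A) (σ : A →* R ≃+* R) (hne : ∃ a r, σ a r ≠ r) :
    ∃ (y e : R) (g : A), e ≠ 0 ∧ e * e = e ∧ (∀ a, σ a e = e) ∧ y * e = y ∧ σ g y = y + e ∧
      ∀ a, ∃ i : ℕ, σ a y = y + i • e := by
  classical
  haveI : Fintype A := Fintype.ofFinite A
  have hnt : Nontrivial R := by
    obtain ⟨a, r, h⟩ := hne
    exact nontrivial_of_ne _ _ h
  haveI : CharP R p := (CharP.charP_iff_prime_eq_zero Fact.out).2 hp0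
  have hσ1 : ∀ r, σ 1 r = r := fun r => by rw [map_one]; rfl
  have hσm : ∀ a b r, σ (a * b) r = σ a (σ b r) := fun a b r => by rw [map_mul]; rfl
  let F : AddSubgroup R :=
    { carrier := {r | ∀ a, σ a r = r}
      zero_mem' := fun a => map_zero _
      add_mem' := fun {x y} hx hy a => by rw [map_add, hx a, hy a]
      neg_mem' := fun {x} hx a => by rw [map_neg, hx a] }
  have hF : ∀ r, r ∈ F ↔ ∀ a, σ a r = r := fun r => Iff.rfl
  -- an element moved by fixed elements
  obtain ⟨y₀, hy₀, hy₀F⟩ : ∃ y, y ∉ F ∧ ∀ a, σ a y - y ∈ F := by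
    let act : A → R ⧸ F → R ⧸ F := fun a => QuotientAddGroup.map F F (σ a).toAddMonoidHom
      (fun r hr => by
        rw [AddSubgroup.mem_comap, hF]
        intro b
        show σ b (σ a r) = σ a r
        rw [(hF r).1 hr a, (hF r).1 hr b])
    letI : MulAction A (R ⧸ F) :=
      { smul := act
        one_smul := fun x => by
          induction x using QuotientAddGroup.induction_on
          exact congrArg _ (hσ1 _)
        mul_smul := fun a b x => by
          induction x using QuotientAddGroup.induction_on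
          exact congrArg _ (hσm a b _) }
    have h0 : (0 : R ⧸ F) ∈ MulAction.fixedPoints A (R ⧸ F) := fun a => map_zero (QuotientAddGroup.map F F (σ a).toAddMonoidHom _)
    have hdvd : p ∣ Nat.card (R ⧸ F) := by
      obtain ⟨a, r, h⟩ := hne
      have hr : (r : R ⧸ F) ≠ 0 := fun h' => h ((hF r).1 ((QuotientAddGroup.eq_zero_iff r).1 h') a)
      have hord : addOrderOf (r : R ⧸ F) = p := addOrderOf_eq_prime (by
        rw [← QuotientAddGroup.mk_nsmul, nsmul_eq_mul, hp0, zero_mul]; rfl) hr
      exact hord ▸ addOrderOf_dvd_natCard _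
    obtain ⟨b, hb, hb0⟩ := hA.exists_fixed_point_of_prime_dvd_card_of_fixed_point (R ⧸ F) hdvd h0
    obtain ⟨y, rfl⟩ := QuotientAddGroup.mk_surjective b
    refine ⟨y, fun h => hb0 ((QuotientAddGroup.eq_zero_iff y).2 h).symm, fun a => ?_⟩
    exact QuotientAddGroup.eq_iff_sub_mem.1 (hb a)
  -- minimise the set of displacements
  let rng : R → Finset R := fun y => Finset.univ.image fun a => σ a y - y
  let good : R → Prop := fun y => y ∉ F ∧ ∀ a, σ a y - y ∈ F
  have hex : ∃ n, ∃ y, good y ∧ (rng y).card = n := ⟨_, y₀, ⟨hy₀, hy₀F⟩, rfl⟩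
  obtain ⟨y, ⟨hyF, hyd⟩, hcard⟩ := Nat.find_spec hex
  have hmin : ∀ y', good y' → (rng y).card ≤ (rng y').card := fun y' h => hcard ▸ Nat.find_min' hex ⟨y', h, rfl⟩
  set δ : A → R := fun a => σ a y - y with hδ
  have hδF : ∀ a b, σ b (δ a) = δ a := fun a b => hyd a b
  have hδadd : ∀ a b, δ (a * b) = δ a + δ b := fun a b => by
    have h := hδF b a
    simp only [hδ, map_sub] at h ⊢
    rw [hσm]
    linear_combination h
  have hδ1 : δ 1 = 0 := by simp [hδ, hσ1]
  have hδinv : ∀ a, δ a⁻¹ = -δ a := fun a => by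
    have := hδadd a⁻¹ a
    rw [inv_mul_cancel, hδ1] at this
    linear_combination -this
  have hδpow : ∀ a (n : ℕ), δ (a ^ n) = n • δ a := fun a n => by
    induction n with
    | zero => simp [hδ1]
    | succ n ih => rw [pow_succ, hδadd, ih, succ_nsmul]
  -- a map killing a nonzero displacement kills all of them
  have kill : ∀ (y' : R) (f : R → R), f 0 = 0 → (∀ a, σ a y' - y' = f (δ a)) → (∀ a b, σ b (f (δ a)) = f (δ a)) →
      (∃ d, δ d ≠ 0 ∧ f (δ d) = 0) → ∀ a, f (δ a) = 0 := by
    intro y' f hf0 hy' hfF ⟨d, hd, hfd⟩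
    by_contra hcon
    obtain ⟨a, ha⟩ := not_forall.1 hcon
    have hgood : good y' := ⟨fun h => ha (by rw [← hy' a, (hF y').1 h a, sub_self]), fun b c => by rw [hy' b, hfF]⟩
    have himg : rng y' = (rng y).image f := by
      ext r
      simp [rng, hy', hδ]
    have hlt : ((rng y).image f).card < (rng y).card := by
      refine lt_of_le_of_ne Finset.card_image_le fun heq => hd ?_
      refine Finset.card_image_iff.1 heq ?_ ?_ (hfd.trans hf0.symm)
      · exact Finset.mem_image.2 ⟨d, Finset.mem_univ _, rfl⟩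
      · exact Finset.mem_image.2 ⟨1, Finset.mem_univ _, hδ1⟩
    have := hmin y' hgood
    rw [himg] at this
    omega
  obtain ⟨d0, hd0⟩ : ∃ a, δ a ≠ 0 := by
    by_contra hcon
    push_neg at hcon
    exact hyF fun a => sub_eq_zero.1 (hcon a)
  set u := δ d0 with hu
  have huF : ∀ b, σ b u = u := hδF d0
  have hu0 : u ^ (q - 1) * u = u := by rw [← pow_succ, Nat.sub_add_cancel (by omega), hR]
  have hrank : ∀ a, ∃ i : ℕ, δ a = i • u := by
    intro d1
    by_contra hcon
    push_neg at hcon
    set v1 := δ d1 with hv1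
    -- each difference is invertible on the support of `u`
    have hw : ∀ i : ℕ, u = u * (v1 - i • u) ^ (q - 1) := by
      intro i
      have hwd : δ (d1 * (d0 ^ i)⁻¹) = v1 - i • u := by
        rw [hδadd, hδinv, hδpow, sub_eq_add_neg]
      set w := v1 - i • u with hwdef
      set c := 1 - w ^ (q - 1) with hc
      have hwF : ∀ b, σ b w = w := fun b => by rw [← hwd]; exact hδF _ b
      have hcF : ∀ b, σ b c = c := fun b => by rw [hc, map_sub, map_one, map_pow, hwF]
      have := kill (c * y) (fun r => c * r) (mul_zero c) (fun a => by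
          rw [map_mul, hcF]; simp only [hδ]; ring)
        (fun a b => by rw [map_mul, hcF, hδF]) ⟨d1 * (d0 ^ i)⁻¹, by rw [hwd]; exact sub_ne_zero.2 (hcon i), by
          rw [hwd]
          show (1 - w ^ (q - 1)) * w = 0
          rw [sub_mul, one_mul, ← pow_succ, Nat.sub_add_cancel (by omega), hR, sub_self]⟩ d0
      simp only [hc] at this
      linear_combination this
    have hfrob : v1 ^ p = u ^ (p - 1) * v1 := by
      have h2 := kill (y ^ p - u ^ (p - 1) * y) (fun r => r ^ p - u ^ (p - 1) * r)
        (by simp [(Fact.out (p := p.Prime)).ne_zero]) (fun a => by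
          have e1 : σ a y = y + δ a := by simp [hδ]
          rw [map_sub, map_mul, map_pow, map_pow, huF, e1, add_pow_char]
          ring)
        (fun a b => by rw [map_sub, map_mul, map_pow, map_pow, huF, hδF])
        ⟨d0, hd0, by
          show u ^ p - u ^ (p - 1) * u = 0
          rw [← pow_succ, Nat.sub_add_cancel (Fact.out (p := p.Prime)).one_le, sub_self]⟩ d1
      exact sub_eq_zero.1 h2
    set e0 := u ^ (q - 1) with he0
    set v := e0 * u ^ (q - 2) * v1 with hv
    have he0i : e0 * e0 = e0 := by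
      rw [he0, ← pow_add, show q - 1 + (q - 1) = (q - 2) + q by omega, pow_add, hR, ← pow_succ,
        show q - 2 + 1 = q - 1 by omega]
    have he0p : ∀ n : ℕ, 1 ≤ n → e0 ^ n = e0 := fun n hn => by
      induction n, hn using Nat.le_induction with
      | base => exact pow_one _
      | succ n _ ih => rw [pow_succ, ih, he0i]
    have hvp : v ^ p = v := by
      have hp2 := (Fact.out (p := p.Prime)).two_le
      rw [hv, mul_pow, mul_pow, hfrob, he0p p (by omega), ← pow_mul]
      have : (q - 2) * p + (p - 1) = (q - 1) * (p - 1) + (q - 2) := by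
        obtain ⟨q', rfl⟩ : ∃ q', q = q' + 2 := ⟨q - 2, by omega⟩
        obtain ⟨p', rfl⟩ : ∃ p', p = p' + 1 := ⟨p - 1, by omega⟩
        simp only [Nat.add_sub_cancel, show q' + 2 - 1 = q' + 1 by omega]
        ring
      calc e0 * u ^ ((q - 2) * p) * (u ^ (p - 1) * v1) = e0 * u ^ ((q - 2) * p + (p - 1)) * v1 := by
            rw [pow_add]; ring
        _ = _ := by
            rw [this, pow_add, pow_mul, ← he0, he0p _ (by omega), ← mul_assoc, he0i]
    have hvi : ∀ i : ZMod p, e0 = e0 * (v - ZMod.castHom (dvd_refl p) R i) ^ (q - 1) := by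
      intro i
      have hci : ZMod.castHom (dvd_refl p) R i = (i.val : R) := by
        conv_lhs => rw [← ZMod.natCast_zmod_val i]
        rw [map_natCast]
      rw [hci]
      have h1 : e0 * (v1 - i.val • u) = e0 * (v - i.val) * u := by
        have hu' : e0 * u = u := hu0
        rw [hv, nsmul_eq_mul]
        have h2 : u ^ (q - 2) * u = e0 := by rw [← pow_succ, show q - 2 + 1 = q - 1 by omega]
        clear_value u e0 v1
        linear_combination (-(v1 * (e0 + 1))) * he0i - (e0 * e0 * v1) * h2
      have h3 : e0 = e0 * (v1 - i.val • u) ^ (q - 1) := by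
        conv_lhs => rw [he0, hw i.val, mul_pow]
        rw [← pow_mul, ← he0]
        have h4 : (v1 - i.val • u) ^ ((q - 1) * (q - 1)) = (v1 - i.val • u) ^ (q - 1) := by
          set w := v1 - i.val • u
          have hwi : w ^ (q - 1) * w ^ (q - 1) = w ^ (q - 1) := by
            rw [← pow_add, show q - 1 + (q - 1) = (q - 2) + q by omega, pow_add, hR, ← pow_succ,
              show q - 2 + 1 = q - 1 by omega]
          rw [pow_mul]
          obtain ⟨n, hn⟩ : ∃ n, q - 1 = n + 1 := ⟨q - 2, by omega⟩
          rw [hn] at hwi ⊢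
          clear hn
          have : ∀ m : ℕ, (w ^ (n + 1)) ^ (m + 1) = w ^ (n + 1) := fun m => by
            induction m with
            | zero => rw [zero_add, pow_one]
            | succ m ih => rw [pow_succ, ih, hwi]
          exact this n
        rw [h4]
      calc e0 = e0 * (v1 - i.val • u) ^ (q - 1) := h3
        _ = (e0 * (v1 - i.val • u)) ^ (q - 1) := by rw [mul_pow, he0p _ (by omega)]
        _ = (e0 * (v - i.val)) ^ (q - 1) * u ^ (q - 1) := by rw [h1, mul_pow]
        _ = _ := by rw [← he0, mul_pow, he0p _ (by omega), mul_right_comm, he0i]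
    have hprod : ∀ s : Finset (ZMod p), e0 = e0 * (∏ i ∈ s, (v - ZMod.castHom (dvd_refl p) R i)) ^ (q - 1) := by
      intro s
      induction s using Finset.induction_on with
      | empty => simp
      | insert a s ha ih =>
        rw [Finset.prod_insert ha, mul_pow, ← mul_assoc, ← hvi a]
        exact ih
    have hz := hprod Finset.univ
    rw [prod_sub_cast, hvp, sub_self, zero_pow (by omega), mul_zero] at hz
    refine hd0 ?_
    have h9 := hu0
    rw [hz, zero_mul] at h9
    exact h9.symm
  -- normalise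
  set c := u ^ (q - 2) with hc
  have hcu : c * u = u ^ (q - 1) := by rw [hc, ← pow_succ, show q - 2 + 1 = q - 1 by omega]
  set e := u ^ (q - 1) with he
  have hee : e * e = e := by
    rw [he, ← pow_add, show q - 1 + (q - 1) = (q - 2) + q by omega, pow_add, hR, ← pow_succ,
      show q - 2 + 1 = q - 1 by omega]
  have heF : ∀ a, σ a e = e := fun a => by rw [he, map_pow, huF]
  have hcF : ∀ a, σ a c = c := fun a => by rw [hc, map_pow, huF]
  have hy' : ∀ a, σ a (c * y * e) = c * y * e + c * δ a * e := fun a => by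
    rw [map_mul, map_mul, heF, hcF]
    simp only [hδ]
    ring
  refine ⟨c * y * e, e, d0, fun h => hd0 ?_, hee, heF, by rw [mul_assoc, hee], ?_, fun a => ?_⟩
  · have h9 := hu0
    rw [h, zero_mul] at h9
    exact h9.symm
  · rw [hy', ← hu, hcu, hee]
  · obtain ⟨i, hi⟩ := hrank a
    refine ⟨i, ?_⟩
    rw [hy', hi, nsmul_eq_mul, nsmul_eq_mul, mul_assoc c (↑i * u) e,
      show c * (↑i * u * e) = ↑i * (c * u * e) by ring, hcu, hee]

end Cfsg.Agent.Lib.AbelianJ
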